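import Cfsg.Agent.Lib.Perm.Asch.Forms.U3.Data

/-!
# Preparations for the subgroups of `SU_3(3)` and `SU_3(5)` which are not maximal
-/

set_option autoImplicit false
set_option linter.all false

namespace CfsgLib.Perm.Asch.U3

open scoped Classical Matrix
open Matrix Cfsg.Geo CfsgLib.SU

variable {F : Type*} [Field F] [Fintype F] {p : ℕ} {σ : F →+* F} {w : F}

/-- the field and its codes -/
structure Ctx (σ : F →+* F) (p : ℕ) (w : F) : Prop where
  hu : UConj σ p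
  M : Mdl σ p 2 w

theorem exists_ctx (hF : Fintype.card F = p ^ 2) (hp : p = 3 ∨ p = 5) : ∃ (σ : F →+* F) (w : F), Ctx σ p w := by
  obtain ⟨σ, hu⟩ := exists_uconj hF
  rcases hp with rfl | rfl
  · obtain ⟨w, M⟩ := exists_mdl (σ := σ) (nr := 2) hF (by norm_num) hu.eq rfl (by decide) (by decide +kernel) (by decide +kernel)
    exact ⟨σ, w, hu, M⟩
  · obtain ⟨w, M⟩ := exists_mdl (σ := σ) (nr := 2) hF (by norm_num) hu.eq rfl (by decide) (by decide +kernel) (by decide +kernel)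
    exact ⟨σ, w, hu, M⟩

/-- an entry -/
def ent3 (v : V3) (j : Fin 3) : ℕ := if j = 0 then v.1 else if j = 1 then v.2.1 else v.2.2

/-- an entry -/
def ent (A : M3) (i j : Fin 3) : ℕ := ent3 (if i = 0 then A.1 else if i = 1 then A.2.1 else A.2.2) j

omit [Fintype F] in
theorem emM_apply (A : M3) (i j : Fin 3) : emM p w A i j = emb p w (ent A i j) := by
  fin_cases i <;> fin_cases j <;> simp [emM, emV, ent, ent3]

/-- iterated product -/
def pw3 (p : ℕ) (A : M3) : ℕ → M3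
  | 0 => one3
  | n + 1 => mm p 2 A (pw3 p A n)

/-- matrices of codes which lie in both groups -/
def Rep (p : ℕ) (w : F) (S : List ℕ) (A : M3) : Prop :=
  ∃ g ∈ stabS p w S ⊓ suGL 3 F p, (g : Matrix (Fin 3) (Fin 3) F) = emM p w A

theorem mem_of_smul {S : List ℕ} {g h : GL (Fin 3) F} {c : F} (hh : h ∈ stabS p w S)
    (hg : (g : Matrix (Fin 3) (Fin 3) F) = c • (h : Matrix (Fin 3) (Fin 3) F)) : g ∈ stabS p w S := by
  have hc : c ≠ 0 := fun h0 => by
    have h1 := g.isUnit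
    rw [hg, h0, zero_smul, isUnit_zero_iff] at h1
    exact zero_ne_one h1
  refine CfsgLib.Perm.Trans.Quad.stabilizing_of_maps fun x hx => ?_
  obtain ⟨s, hs, d, hd, he⟩ := (hh x).1 hx
  refine ⟨s, hs, c * d, mul_ne_zero hc hd, ?_⟩
  rw [hg, smul_mulVec, show (h : Matrix (Fin 3) (Fin 3) F) *ᵥ x = _ from he, smul_smul]

namespace Ctx

variable (X : Ctx σ p w)
include X

theorem bar (x : F) : σ x = x ^ p := X.hu.eq x

theorem rep_of_gen {S : List ℕ} {L : List M3} {Cs : List (List (ℕ × ℕ))} (hok : allOk p S L Cs = true) {A : M3}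
    (hA : A ∈ L) : Rep p w S A := by
  simp only [allOk, Bool.and_eq_true, Nat.beq_eq, List.all_eq_true] at hok
  obtain ⟨hlen, hall⟩ := hok
  obtain ⟨i, hi, rfl⟩ := List.getElem_of_mem hA
  have hz : (L[i], Cs[i]'(hlen ▸ hi)) ∈ L.zip Cs := by
    rw [← List.getElem_zip (i := i) (h := by rw [List.length_zip, ← hlen, min_self]; exact hi)]
    exact List.getElem_mem _
  obtain ⟨hsu, hp⟩ := hall _ hz
  obtain ⟨g, hg, hgs⟩ := X.M.exists_su X.hu.inv X.bar hsu
  exact ⟨g, ⟨mem_stabS X.M one_ne_zero (by rw [hg, one_smul]) hp, hgs⟩, hg⟩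

theorem rep_mm {S : List ℕ} {A B : M3} (hA : Rep p w S A) (hB : Rep p w S B) : Rep p w S (mm p 2 A B) := by
  obtain ⟨a, ha, ha'⟩ := hA
  obtain ⟨b, hb, hb'⟩ := hB
  exact ⟨a * b, mul_mem ha hb, by rw [Units.val_mul, ha', hb', X.M.emM_mm]⟩

theorem rep_one {S : List ℕ} : Rep p w S one3 :=
  ⟨1, one_mem _, by rw [Units.val_one, X.M.emM_one]⟩

theorem rep_pw {S : List ℕ} {A : M3} (hA : Rep p w S A) (n : ℕ) : Rep p w S (pw3 p A n) := by
  induction n with
  | zero => exact X.rep_one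
  | succ n ih => exact X.rep_mm hA ih

theorem mem_of_rep {S : List ℕ} {A : M3} (hA : Rep p w S A) {g : GL (Fin 3) F} {c : F}
    (hg : (g : Matrix (Fin 3) (Fin 3) F) = c • emM p w A) : g ∈ stabS p w S := by
  obtain ⟨a, ha, ha'⟩ := hA
  exact mem_of_smul ha.1 (by rw [ha']; exact hg)

theorem mem_GU_iff {g : GL (Fin 3) F} :
    g ∈ Cfsg.GU 3 F p ↔ ((g : Matrix (Fin 3) (Fin 3) F))ᵀ.map σ * (g : Matrix (Fin 3) (Fin 3) F) = 1 := by
  rw [X.hu.GU_eq, mem_iso, mul_one]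
  constructor <;> intro h
  · have h1 := congrArg (fun A : Matrix (Fin 3) (Fin 3) F => A.map σ) h
    simpa [Matrix.map_mul, Matrix.map_map, Function.comp_def, X.hu.inv] using h1
  · have h1 := congrArg (fun A : Matrix (Fin 3) (Fin 3) F => A.map σ) h
    simpa [Matrix.map_mul, Matrix.map_map, Function.comp_def, X.hu.inv] using h1

/-- conjugates stay special unitary -/
theorem conj_mem {u x : GL (Fin 3) F} (hu : u ∈ Cfsg.GU 3 F p) (hx : x ∈ suGL 3 F p) :
    u * x * u⁻¹ ∈ suGL 3 F p :=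
  ⟨(Cfsg.GU 3 F p).mul_mem ((Cfsg.GU 3 F p).mul_mem hu hx.1) ((Cfsg.GU 3 F p).inv_mem hu), (MonoidHom.normal_ker _).conj_mem x hx.2 u⟩

/-- the configuration of points gives a larger subgroup -/
theorem not_maximal {H : Subgroup (GL (Fin 3) F)} (hH : IsMaximalIn (suGL 3 F p) H) {S : List ℕ}
    {u : GL (Fin 3) F} (hu : u ∈ Cfsg.GU 3 F p) (hle : ∀ h ∈ H, u⁻¹ * h * u ∈ stabS p w S) {A : M3}
    (hA : Rep p w S A)
    (hxH : ∀ x : GL (Fin 3) F, (x : Matrix (Fin 3) (Fin 3) F) = emM p w A → x ∈ suGL 3 F p → u * x * u⁻¹ ∉ H)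
    {B : M3} {s₀ : ℕ} (hB : isSU p 2 B = true ∧ moves p 2 S B s₀ = true) : False := by
  obtain ⟨x, hx, hx'⟩ := hA
  obtain ⟨y, hy', hy⟩ := X.M.exists_su X.hu.inv X.bar hB.1
  have hyS : y ∉ stabS p w S := not_mem_stabS X.M hy' hB.2
  let K : Subgroup (GL (Fin 3) F) := (stabS p w S).comap (MulAut.conj u⁻¹).toMonoidHom ⊓ suGL 3 F p
  have hmem : ∀ g, g ∈ K ↔ u⁻¹ * g * u ∈ stabS p w S ∧ g ∈ suGL 3 F p := fun g => by simp [K]
  rcases hH.2 K (fun h hh => (hmem h).2 ⟨hle h hh, hH.1.le hh⟩) inf_le_right with h | h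
  · refine hxH x hx' hx.2 (h ▸ (hmem _).2 ⟨?_, X.conj_mem hu hx.2⟩)
    simpa [mul_assoc] using hx.1
  · have h1 := (hmem _).1 (h.symm ▸ X.conj_mem hu hy : u * y * u⁻¹ ∈ K)
    exact hyS (by simpa [mul_assoc] using h1.1)

end Ctx

end CfsgLib.Perm.Asch.U3
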