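import Cfsg.Agent.Lib.Perm.Asch.Forms.U3.Model

/-!
# Configurations of points for `q = 3` and `q = 5`
-/

set_option autoImplicit false
set_option linter.all false

namespace CfsgLib.Perm.Asch.U3

def ptsA : List ℕ :=
  [1024, 32, 1056, 4128, 12320, 13344, 17440, 18464, 1, 1025, 4097, 12289, 13313, 17409, 18433, 33, 1057, 2081, 3105, 4129, 10273, 15393, 1089, 2113, 3137, 4161, 1121, 2145, 3169, 4193, 129, 1153, 2177, 3201, 4225, 10369, 15489, 5281, 20641, 9409, 13505, 17601, 21697, 13537, 17633, 12545, 18689, 6433, 12577, 18721, 24865, 1345, 4417, 14689, 16737, 385, 8577, 9601, 13697, 17793, 21889, 22913, 417, 6561, 7585, 12705, 18849, 23969, 24993, 11713, 19905, 1505, 4577, 11777, 19969, 545, 6689, 7713, 12833, 18977, 24097, 25121, 577, 8769, 9793, 13889, 17985, 22081, 23105, 14945, 16993, 5761, 21121, 6817, 12961, 19105, 25249, 12993, 19137, 14049, 18145, 9985, 14081, 18177, 22273]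

def ptsB : List ℕ :=
  [4128, 13344, 18464, 4097, 13313, 18433, 8225, 9249, 13345, 22561, 17473, 21601, 129, 13441, 17537, 11425, 6337, 12513, 1281, 1313, 17729, 5473, 7553, 18817, 23937, 24961, 417, 1441, 4513, 14785, 17889, 16897, 2593, 4641, 10785, 15905, 577, 12865, 19009, 21089, 20097, 3745, 1729, 13025, 13057]

def ptsC : List ℕ :=
  [1056, 3073, 8225, 7233, 4193, 5217, 7265, 8289, 2177, 6273, 8321, 1185, 6305, 7329, 193, 4321, 5345, 6369, 4353, 5377, 6401]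

def genA : List M3 :=
  [((1, 0, 0), (0, 1, 0), (0, 0, 1)),
    ((12, 0, 0), (0, 12, 0), (0, 0, 12)),
    ((17, 0, 0), (0, 17, 0), (0, 0, 17)),
    ((13, 0, 0), (0, 18, 0), (0, 0, 1)),
    ((1, 0, 0), (0, 13, 0), (0, 0, 18)),
    ((5, 6, 21), (19, 3, 6), (0, 11, 20)),
    ((0, 5, 11), (5, 9, 6), (19, 24, 3)),
    ((3, 2, 5), (3, 2, 20), (20, 20, 0)),
    ((1, 0, 0), (0, 1, 0), (0, 0, 1)),
    ((4, 0, 0), (0, 0, 4), (0, 4, 0)),
    ((0, 4, 0), (4, 0, 0), (0, 0, 4)),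
    ((0, 0, 1), (1, 0, 0), (0, 1, 0)),
    ((0, 1, 0), (0, 0, 1), (1, 0, 0)),
    ((0, 0, 4), (0, 4, 0), (4, 0, 0))]

def genACert : List (List (ℕ × ℕ)) :=
  [[(0, 1), (1, 1), (2, 1), (3, 1), (4, 1), (5, 1), (6, 1), (7, 1), (8, 1), (9, 1), (10, 1), (11, 1), (12, 1), (13, 1), (14, 1), (15, 1), (16, 1), (17, 1), (18, 1), (19, 1), (20, 1), (21, 1), (22, 1), (23, 1), (24, 1), (25, 1), (26, 1), (27, 1), (28, 1), (29, 1), (30, 1), (31, 1), (32, 1), (33, 1), (34, 1), (35, 1), (36, 1), (37, 1), (38, 1), (39, 1), (40, 1), (41, 1), (42, 1), (43, 1), (44, 1), (45, 1), (46, 1), (47, 1), (48, 1), (49, 1), (50, 1), (51, 1), (52, 1), (53, 1), (54, 1), (55, 1), (56, 1), (57, 1), (58, 1), (59, 1), (60, 1), (61, 1), (62, 1), (63, 1), (64, 1), (65, 1), (66, 1), (67, 1), (68, 1), (69, 1), (70, 1), (71, 1), (72, 1), (73, 1), (74, 1), (75, 1), (76, 1), (77, 1), (78, 1), (79, 1), (80, 1), (81, 1), (82, 1), (83, 1), (84, 1), (85, 1), (86,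 1), (87, 1), (88, 1), (89, 1), (90, 1), (91, 1), (92, 1), (93, 1), (94, 1), (95, 1), (96, 1), (97, 1), (98, 1), (99, 1), (100, 1), (101, 1), (102, 1), (103, 1), (104, 1)],
    [(0, 12), (1, 12), (2, 12), (3, 12), (4, 12), (5, 12), (6, 12), (7, 12), (8, 12), (9, 12), (10, 12), (11, 12), (12, 12), (13, 12), (14, 12), (15, 12), (16, 12), (17, 12), (18, 12), (19, 12), (20, 12), (21, 12), (22, 12), (23, 12), (24, 12), (25, 12), (26, 12), (27, 12), (28, 12), (29, 12), (30, 12), (31, 12), (32, 12), (33, 12), (34, 12), (35, 12), (36, 12), (37, 12), (38, 12), (39, 12), (40, 12), (41, 12), (42, 12), (43, 12), (44, 12), (45, 12), (46, 12), (47, 12), (48, 12), (49, 12), (50, 12), (51, 12), (52, 12), (53, 12), (54, 12), (55, 12), (56, 12), (57, 12), (58, 12), (59, 12), (60, 12), (61, 12), (62, 12), (63, 12), (64, 12), (65, 12), (66, 12), (67, 12), (68, 12), (69, 12), (70, 12), (71, 12), (72, 12), (73, 12), (74, 12), (75, 12), (76,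 12), (77, 12), (78, 12), (79, 12), (80, 12), (81, 12), (82, 12), (83, 12), (84, 12), (85, 12), (86, 12), (87, 12), (88, 12), (89, 12), (90, 12), (91, 12), (92, 12), (93, 12), (94, 12), (95, 12), (96, 12), (97, 12), (98, 12), (99, 12), (100, 12), (101, 12), (102, 12), (103, 12), (104, 12)],
    [(0, 17), (1, 17), (2, 17), (3, 17), (4, 17), (5, 17), (6, 17), (7, 17), (8, 17), (9, 17), (10, 17), (11, 17), (12, 17), (13, 17), (14, 17), (15, 17), (16, 17), (17, 17), (18, 17), (19, 17), (20, 17), (21, 17), (22, 17), (23, 17), (24, 17), (25, 17), (26, 17), (27, 17), (28, 17), (29, 17), (30, 17), (31, 17), (32, 17), (33, 17), (34, 17), (35, 17), (36, 17), (37, 17), (38, 17), (39, 17), (40, 17), (41, 17), (42, 17), (43, 17), (44, 17), (45, 17), (46, 17), (47, 17), (48, 17), (49, 17), (50, 17), (51, 17), (52, 17), (53, 17), (54, 17), (55, 17), (56, 17), (57, 17), (58, 17), (59, 17), (60, 17), (61, 17), (62, 17), (63, 17), (64,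 17), (65, 17), (66, 17), (67, 17), (68, 17), (69, 17), (70, 17), (71, 17), (72, 17), (73, 17), (74, 17), (75, 17), (76, 17), (77, 17), (78, 17), (79, 17), (80, 17), (81, 17), (82, 17), (83, 17), (84, 17), (85, 17), (86, 17), (87, 17), (88, 17), (89, 17), (90, 17), (91, 17), (92, 17), (93, 17), (94, 17), (95, 17), (96, 17), (97, 17), (98, 17), (99, 17), (100, 17), (101, 17), (102, 17), (103, 17), (104, 17)],
    [(0, 1), (1, 18), (5, 18), (6, 18), (3, 18), (4, 18), (7, 18), (2, 18), (8, 13), (14, 13), (11, 13), (12, 13), (9, 13), (10, 13), (13, 13), (75, 13), (79, 13), (76, 13), (81, 13), (78, 13), (77, 13), (80, 13), (49, 13), (47, 13), (50, 13), (48, 13), (95, 13), (93, 13), (96, 13), (94, 13), (62, 13), (66, 13), (63, 13), (68, 13), (65, 13), (64, 13), (67, 13), (54, 13), (53, 13), (28, 13), (26, 13), (29, 13), (27, 13), (71, 13), (72, 13), (43, 13), (44, 13), (101, 13), (102, 13), (103, 13), (104, 13), (98, 13),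 (97, 13), (70, 13), (69, 13), (15, 13), (20, 13), (18, 13), (16, 13), (19, 13), (17, 13), (21, 13), (82, 13), (84, 13), (88, 13), (85, 13), (86, 13), (83, 13), (87, 13), (38, 13), (37, 13), (46, 13), (45, 13), (92, 13), (91, 13), (55, 13), (57, 13), (61, 13), (58, 13), (59, 13), (56, 13), (60, 13), (30, 13), (35, 13), (33, 13), (31, 13), (34, 13), (32, 13), (36, 13), (74, 13), (73, 13), (90, 13), (89, 13), (39, 13), (40, 13), (41, 13), (42, 13), (99, 13), (100, 13), (51, 13), (52, 13), (24, 13), (22, 13), (25, 13), (23, 13)],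
    [(0, 18), (1, 13), (6, 13), (5, 13), (2, 13), (7, 13), (4, 13), (3, 13), (8, 1), (14, 1), (11, 1), (12, 1), (9, 1), (10, 1), (13, 1), (62, 1), (66, 1), (63, 1), (68, 1), (65, 1), (64, 1), (67, 1), (95, 1), (93, 1), (96, 1), (94, 1), (49, 1), (47, 1), (50, 1), (48, 1), (75, 1), (79, 1), (76, 1), (81, 1), (78, 1), (77, 1), (80, 1), (90, 1), (89, 1), (24, 1), (22, 1), (25, 1), (23, 1), (51, 1), (52, 1), (99, 1), (100, 1), (39, 1), (40, 1), (41, 1), (42, 1), (46, 1), (45, 1), (74, 1), (73, 1), (30, 1), (35, 1), (33, 1), (31, 1), (34, 1), (32, 1), (36, 1), (55, 1), (57, 1), (61, 1), (58, 1), (59, 1), (56, 1), (60, 1), (92, 1), (91, 1), (98, 1), (97, 1), (38, 1), (37, 1), (82, 1), (84, 1), (88, 1), (85, 1), (86, 1), (83, 1), (87, 1), (15, 1), (20, 1), (18, 1), (16, 1), (19, 1), (17, 1), (21, 1), (70, 1), (69, 1), (54, 1), (53, 1), (101, 1), (102, 1), (103, 1), (104, 1), (43, 1), (44, 1), (71, 1), (72, 1), (28, 1), (26,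 1), (29, 1), (27, 1)],
    [(77, 21), (80, 6), (79, 2), (81, 10), (78, 9), (0, 22), (75, 12), (76, 8), (62, 5), (92, 1), (100, 14), (87, 8), (70, 4), (72, 11), (32, 7), (71, 11), (36, 7), (27, 3), (46, 24), (47, 15), (74, 22), (7, 8), (25, 13), (60, 9), (6, 8), (98, 21), (89, 19), (11, 10), (18, 6), (39, 2), (69, 4), (95, 20), (54, 16), (102, 12), (88, 8), (10, 10), (51, 18), (48, 15), (58, 9), (5, 8), (103, 12), (45, 24), (17, 6), (52, 18), (4, 8), (26, 3), (40, 2), (66, 5), (56, 9), (86, 8), (30, 7), (12, 10), (37, 23), (8, 10), (67, 5), (91, 1), (43, 17), (22, 13), (94, 20), (35, 7), (90, 19), (13, 10), (33, 7), (20, 6), (41, 2), (63, 5), (55, 9), (104, 12), (85, 8), (49, 15), (16, 6), (44, 17), (3, 8), (59, 9), (96, 20), (84, 8), (31, 7), (29, 3), (15, 6), (68, 5), (23, 13), (61, 9), (99, 14), (2, 8), (97, 21), (83, 8), (50, 15), (42, 2), (38, 23), (64, 5), (1, 8), (19, 6), (93, 20), (82, 8), (34, 7), (21, 6),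 (65, 5), (24, 13), (101, 12), (9, 10), (73, 22), (57, 9), (53, 16), (28, 3), (14, 10)],
    [(90, 11), (53, 5), (93, 16), (66, 24), (8, 10), (78, 21), (50, 19), (6, 13), (5, 5), (21, 11), (44, 19), (72, 5), (24, 16), (39, 14), (83, 20), (61, 5), (49, 16), (64, 2), (40, 13), (73, 24), (71, 18), (10, 22), (67, 21), (11, 7), (23, 18), (87, 4), (29, 1), (101, 12), (75, 23), (98, 9), (51, 20), (38, 6), (33, 17), (46, 3), (68, 14), (82, 8), (56, 12), (85, 6), (48, 23), (3, 7), (86, 23), (74, 16), (79, 14), (102, 3), (26, 21), (55, 22), (52, 12), (28, 12), (97, 2), (103, 17), (62, 7), (12, 10), (20, 18), (16, 6), (95, 7), (27, 14), (84, 21), (58, 7), (4, 9), (96, 23), (37, 16), (41, 2), (35, 19), (77, 9), (13, 15), (91, 24), (94, 14), (43, 18), (22, 4), (89, 18), (0, 8), (100, 12), (30, 15), (1, 10), (54, 12), (99, 11), (57, 1), (36, 12), (76, 16), (70, 6), (15, 10), (45, 21), (104, 16), (18, 3), (69, 14), (47, 7), (2, 6),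 (31, 23), (25, 9), (63, 23), (59, 24), (81, 7), (34, 24), (14, 23), (17, 13), (80, 3), (42, 18), (88, 18), (9, 8), (60, 9), (32, 2), (65, 16), (92, 14), (19, 7), (7, 8)],
    [(30, 5), (20, 2), (87, 7), (68, 22), (98, 11), (44, 16), (53, 13), (73, 18), (21, 3), (63, 8), (84, 23), (74, 12), (54, 17), (43, 14), (97, 19), (0, 15), (33, 5), (34, 10), (31, 15), (32, 20), (35, 4), (36, 1), (85, 7), (61, 12), (80, 17), (65, 22), (77, 9), (86, 14), (66, 19), (56, 24), (15, 1), (55, 6), (62, 11), (82, 16), (75, 21), (1, 2), (8, 2), (94, 10), (101, 11), (92, 7), (48, 4), (42, 21), (51, 18), (99, 1), (89, 23), (14, 23), (7, 23), (39, 18), (91, 20), (52, 2), (49, 9), (41, 3), (50, 18), (100, 19), (90, 1), (18, 22), (78, 14), (10, 19), (26, 11), (23, 8), (3, 19), (59, 5), (19, 24), (76, 1), (22, 6), (83, 8), (67, 10), (28, 12), (60, 17), (4, 17), (11, 17), (104, 13), (95, 3), (46, 14), (70, 1), (17, 7), (9, 14), (58, 19), (29,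 16), (24, 23), (79, 20), (2, 14), (16, 9), (25, 21), (57, 1), (64, 23), (88, 15), (81, 12), (27, 17), (5, 12), (12, 12), (40, 15), (47, 16), (38, 22), (102, 4), (96, 6), (72, 13), (45, 1), (69, 8), (13, 8), (6, 8), (93, 13), (37, 5), (71, 2), (103, 24)],
    [(0, 1), (1, 1), (2, 1), (3, 1), (4, 1), (5, 1), (6, 1), (7, 1), (8, 1), (9, 1), (10, 1), (11, 1), (12, 1), (13, 1), (14, 1), (15, 1), (16, 1), (17, 1), (18, 1), (19, 1), (20, 1), (21, 1), (22, 1), (23, 1), (24, 1), (25, 1), (26, 1), (27, 1), (28, 1), (29, 1), (30, 1), (31, 1), (32, 1), (33, 1), (34, 1), (35, 1), (36, 1), (37, 1), (38, 1), (39, 1), (40, 1), (41, 1), (42, 1), (43, 1), (44, 1), (45, 1), (46, 1), (47, 1), (48, 1), (49, 1), (50, 1), (51, 1), (52, 1), (53, 1), (54, 1), (55, 1), (56, 1), (57, 1), (58, 1), (59, 1), (60, 1), (61, 1), (62, 1), (63, 1), (64, 1), (65, 1), (66, 1), (67, 1), (68, 1), (69, 1), (70, 1), (71, 1), (72, 1), (73, 1), (74, 1), (75,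 1), (76, 1), (77, 1), (78, 1), (79, 1), (80, 1), (81, 1), (82, 1), (83, 1), (84, 1), (85, 1), (86, 1), (87, 1), (88, 1), (89, 1), (90, 1), (91, 1), (92, 1), (93, 1), (94, 1), (95, 1), (96, 1), (97, 1), (98, 1), (99, 1), (100, 1), (101, 1), (102, 1), (103, 1), (104, 1)],
    [(1, 4), (0, 4), (2, 4), (3, 1), (6, 18), (7, 17), (4, 13), (5, 12), (8, 4), (15, 4), (30, 4), (55, 4), (62, 4), (75, 4), (82, 4), (9, 4), (16, 4), (22, 4), (26, 4), (31, 4), (51, 4), (71, 4), (17, 4), (23, 4), (27, 4), (32, 4), (18, 4), (24, 4), (28, 4), (33, 4), (10, 4), (19, 4), (25, 4), (29, 4), (34, 4), (52, 4), (72, 4), (37, 4), (91, 4), (47, 4), (63, 4), (76, 4), (93, 4), (64, 4), (77, 4), (56, 4), (83, 4), (39, 4), (57, 4), (84, 4), (101, 4), (20, 4), (35, 4), (69, 4), (73, 4), (11, 4), (45, 4), (48, 4), (65, 4), (78, 4), (94, 4), (97, 4), (12, 4), (40, 4), (43, 4), (58, 4), (85, 4), (99, 4), (102, 4), (53, 4), (89, 4), (21, 4), (36, 4),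 (54, 4), (90, 4), (13, 4), (41, 4), (44, 4), (59, 4), (86, 4), (100, 4), (103, 4), (14, 4), (46, 4), (49, 4), (66, 4), (79, 4), (95, 4), (98, 4), (70, 4), (74, 4), (38, 4), (92, 4), (42, 4), (60, 4), (87, 4), (104, 4), (61, 4), (88, 4), (67, 4), (80, 4), (50, 4), (68, 4), (81, 4), (96, 4)],
    [(0, 4), (8, 4), (9, 4), (10, 4), (11, 4), (12, 4), (13, 4), (14, 4), (1, 4), (2, 4), (3, 4), (4, 4), (5, 4), (6, 4), (7, 4), (15, 4), (16, 4), (17, 4), (18, 4), (19, 4), (20, 4), (21, 4), (28, 3), (26, 3), (29, 3), (27, 3), (23, 2), (25, 2), (22, 2), (24, 2), (30, 1), (34, 1), (33, 1), (32, 1), (31, 1), (36, 1), (35, 1), (71, 20), (72, 20), (49, 24), (47, 24), (50, 24), (48, 24), (54, 23), (53, 23), (69, 22), (70, 22), (40, 21), (42, 21), (39, 21), (41, 21), (92, 15), (91, 15), (44, 19), (43, 19), (75, 18), (77, 18), (81, 18), (79, 18), (78, 18), (76, 18), (80, 18), (82, 17), (84, 17), (88, 17), (85, 17), (86, 17), (83, 17),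 (87, 17), (45, 16), (46, 16), (37, 10), (38, 10), (98, 14), (97, 14), (55, 13), (60, 13), (56, 13), (59, 13), (58, 13), (61, 13), (57, 13), (62, 12), (67, 12), (63, 12), (65, 12), (66, 12), (68, 12), (64, 12), (99, 11), (100, 11), (52, 5), (51, 5), (103, 9), (101, 9), (104, 9), (102, 9), (74, 8), (73, 8), (89, 7), (90, 7), (94, 6), (96, 6), (93, 6), (95, 6)],
    [(8, 1), (0, 1), (9, 1), (10, 4), (13, 12), (14, 13), (11, 17), (12, 18), (1, 1), (15, 1), (30, 4), (75, 12), (82, 13), (55, 17), (62, 18), (2, 1), (16, 1), (28, 2), (23, 3), (34, 4), (92, 10), (37, 15), (17, 1), (26, 2), (25, 3), (33, 4), (18, 1), (29, 2), (22, 3), (32, 4), (3, 1), (19, 1), (27, 2), (24, 3), (31, 4), (91, 10), (38, 15), (71, 5), (52, 20), (40, 9), (84, 13), (60, 17), (103, 21), (88, 13), (56, 17), (77, 12), (67, 18), (49, 6), (81, 12), (63, 18), (94, 24), (20, 1), (36, 4), (45, 14), (98, 16), (4, 1), (69, 8), (42, 9), (85, 13), (59, 17),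 (101, 21), (74, 22), (5, 1), (47, 6), (54, 7), (79, 12), (65, 18), (89, 23), (96, 24), (44, 11), (99, 19), (21, 1), (35, 4), (43, 11), (100, 19), (6, 1), (50, 6), (53, 7), (78, 12), (66, 18), (90, 23), (93, 24), (7, 1), (70, 8), (39, 9), (86, 13), (58, 17), (104, 21), (73, 22), (46, 14), (97, 16), (72, 5), (51, 20), (48, 6), (76, 12), (68, 18), (95, 24), (80, 12), (64, 18), (83, 13), (61, 17), (41, 9), (87, 13), (57, 17), (102, 21)],
    [(1, 1), (8, 1), (15, 1), (30, 1), (55, 1), (62, 1), (75, 1), (82, 1), (0, 1), (2, 1), (3, 4), (6, 12), (7, 13), (4, 17), (5, 18), (9, 1), (16, 1), (22, 1), (26, 1), (31, 1), (51, 1), (71, 1), (28, 2), (18, 2), (33, 2), (24, 2), (23, 3), (32, 3), (17, 3), (27, 3), (10, 4), (34, 4), (29, 4), (25, 4), (19, 4), (72, 4), (52, 4), (21, 5), (36, 5), (84, 6), (39, 6), (101, 6), (57, 6), (73, 7), (69, 7), (53, 8), (89, 8), (63, 9), (93, 9), (47, 9), (76, 9), (92, 10), (38, 10), (77, 11), (64,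 11), (13, 12), (44, 12), (103, 12), (86, 12), (59, 12), (41, 12), (100, 12), (14, 13), (49, 13), (98, 13), (66, 13), (79, 13), (46, 13), (95, 13), (56, 14), (83, 14), (37, 15), (91, 15), (88, 16), (61, 16), (11, 17), (94, 17), (45, 17), (78, 17), (65, 17), (97, 17), (48, 17), (12, 18), (99, 18), (40, 18), (58, 18), (85, 18), (102, 18), (43, 18), (67, 19), (80, 19), (35, 20), (20, 20), (81, 21), (50, 21), (96, 21), (68, 21), (90, 22), (54, 22), (70, 23), (74, 23), (60, 24), (104, 24), (42, 24), (87, 24)],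
    [(8, 4), (1, 4), (15, 4), (30, 1), (75, 18), (82, 17), (55, 13), (62, 12), (0, 4), (9, 4), (10, 1), (13, 18), (14, 17), (11, 13), (12, 12), (2, 4), (16, 4), (28, 3), (23, 2), (34, 1), (92, 15), (37, 10), (22, 4), (18, 3), (32, 2), (29, 1), (26, 4), (33, 3), (17, 2), (25, 1), (3, 1), (31, 4), (24, 3), (27, 2), (19, 1), (38, 15), (91, 10), (21, 20), (35, 5), (63, 21), (49, 17), (94, 13), (81, 9), (98, 17), (45, 13), (44, 18), (99, 12), (84, 24), (103, 18), (40, 12), (60, 6), (51, 4), (72, 1), (56, 16), (88, 14), (6, 18), (53, 22), (93, 21), (66, 17), (78, 13), (50, 9), (90, 8), (7, 17), (39, 24), (73, 23), (86, 18), (58, 12), (70, 7), (104, 6), (77, 19), (67, 11), (71, 4), (52, 1), (64, 19), (80, 11), (4, 13), (101, 24), (69, 23), (59, 18), (85, 12), (74, 7), (42, 6), (5, 12), (89, 22), (47, 21), (79, 17), (65, 13), (96, 9), (54, 8), (83, 16), (61, 14), (36, 20), (20, 5), (57, 24), (41, 18), (102, 12), (87, 6), (100,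 18), (43, 12), (46, 17), (97, 13), (76, 21), (95, 17), (48, 13), (68, 9)]]

def realVecs : List ℕ :=
  [1024, 4096, 32, 128, 1, 2081, 3105, 1089, 4161, 1121, 4193, 2177, 3201, 1058, 4130, 1154, 4226, 1059, 4131, 1155, 4227, 4, 2084, 3108, 1092, 4164, 1124, 4196, 2180, 3204]

def genT : List M3 :=
  [((0, 0, 4), (0, 1, 0), (1, 0, 0)),
    ((0, 0, 1), (0, 1, 0), (4, 0, 0)),
    ((0, 0, 1), (1, 0, 0), (0, 1, 0)),
    ((0, 0, 4), (4, 0, 0), (0, 1, 0)),
    ((1, 0, 0), (0, 0, 4), (0, 1, 0)),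
    ((1, 1, 2), (1, 2, 1), (2, 1, 1)),
    ((1, 1, 3), (1, 2, 4), (3, 4, 1)),
    ((1, 1, 3), (2, 1, 4), (1, 2, 4)),
    ((1, 1, 2), (2, 1, 1), (4, 3, 4)),
    ((1, 1, 2), (3, 4, 4), (1, 2, 1)),
    ((1, 1, 3), (3, 4, 1), (4, 3, 1)),
    ((1, 1, 3), (4, 3, 1), (2, 1, 4)),
    ((1, 1, 2), (4, 3, 4), (3, 4, 4)),
    ((2, 1, 1), (1, 1, 2), (1, 2, 1)),
    ((2, 1, 4), (1, 1, 3), (4, 3, 1)),
    ((2, 1, 1), (4, 3, 4), (1, 1, 2)),
    ((2, 1, 4), (4, 3, 1), (4, 4, 2)),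
    ((3, 1, 1), (1, 3, 4), (1, 4, 3)),
    ((3, 1, 4), (1, 3, 1), (4, 1, 3)),
    ((3, 1, 1), (4, 1, 2), (1, 3, 4)),
    ((3, 1, 4), (4, 1, 3), (4, 2, 4)),
    ((4, 0, 0), (0, 0, 1), (0, 1, 0)),
    ((4, 1, 3), (1, 3, 1), (2, 4, 1)),
    ((4, 1, 2), (1, 3, 4), (3, 1, 1)),
    ((4, 1, 2), (2, 4, 4), (1, 3, 4)),
    ((4, 1, 3), (2, 4, 1), (4, 2, 4)),
    ((4, 1, 3), (3, 1, 4), (1, 3, 1)),
    ((4, 1, 2), (3, 1, 1), (4, 2, 1)),
    ((4, 1, 2), (4, 2, 1), (2, 4, 4)),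
    ((4, 1, 3), (4, 2, 4), (3, 1, 4))]

def genTCert : List (List (ℕ × ℕ)) :=
  [[(8, 4), (1, 1), (30, 4), (15, 1), (62, 18), (55, 17), (82, 13), (75, 12), (0, 1), (10, 4), (9, 1), (12, 18), (11, 17), (14, 13), (13, 12), (2, 1), (34, 4), (23, 3), (28, 2), (16, 1), (37, 15), (92, 10), (29, 4), (32, 3), (18, 2), (22, 1), (25, 4), (17, 3), (33, 2), (26, 1), (3, 4), (19, 4), (27, 3), (24, 2), (31, 1), (91, 15), (38, 10), (35, 20), (21, 5), (81, 21), (94, 17), (49, 13), (63, 9), (45, 17), (98, 13), (99, 18), (44, 12), (60, 24), (40, 18), (103, 12), (84, 6), (72, 4), (51, 1), (88, 16), (56, 14), (6, 12), (90, 22), (50, 21), (78, 17), (66, 13), (93, 9), (53, 8), (7, 13), (104, 24), (70, 23), (58, 18), (86, 12), (73, 7), (39, 6), (67, 19), (77, 11), (52, 4), (71, 1), (80, 19), (64, 11), (4, 17), (42, 24), (74, 23), (85, 18), (59, 12), (69, 7), (101, 6), (5, 18), (54, 22), (96, 21), (65, 17), (79, 13), (47, 9), (89, 8), (61,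 16), (83, 14), (20, 20), (36, 5), (87, 24), (102, 18), (41, 12), (57, 6), (43, 18), (100, 12), (97, 17), (46, 13), (68, 21), (48, 17), (95, 13), (76, 9)],
    [(8, 1), (1, 1), (15, 1), (30, 4), (75, 12), (82, 13), (55, 17), (62, 18), (0, 4), (10, 1), (9, 4), (12, 12), (11, 13), (14, 17), (13, 18), (3, 1), (19, 1), (27, 2), (24, 3), (31, 4), (91, 10), (38, 15), (25, 1), (17, 2), (33, 3), (26, 4), (29, 1), (32, 2), (18, 3), (22, 4), (2, 4), (34, 1), (23, 2), (28, 3), (16, 4), (37, 10), (92, 15), (20, 5), (36, 20), (68, 9), (48, 13), (95, 17), (76, 21), (97, 13), (46, 17), (43, 12), (100, 18), (87, 6), (102, 12), (41, 18), (57, 24), (52, 1), (71, 4), (61, 14), (83, 16), (5, 12), (54, 8), (96, 9), (65, 13), (79, 17), (47, 21), (89, 22), (4, 13), (42, 6), (74, 7), (85, 12), (59, 18), (69, 23), (101, 24), (80, 11), (64, 19), (72, 1), (51, 4), (67, 11), (77, 19), (7, 17), (104, 6), (70, 7), (58, 12), (86, 18), (73, 23), (39,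 24), (6, 18), (90, 8), (50, 9), (78, 13), (66, 17), (93, 21), (53, 22), (88, 14), (56, 16), (35, 5), (21, 20), (60, 6), (40, 12), (103, 18), (84, 24), (99, 12), (44, 18), (45, 13), (98, 17), (81, 9), (94, 13), (49, 17), (63, 21)],
    [(8, 1), (0, 1), (9, 1), (10, 4), (13, 12), (14, 13), (11, 17), (12, 18), (1, 1), (15, 1), (30, 4), (75, 12), (82, 13), (55, 17), (62, 18), (2, 1), (16, 1), (28, 2), (23, 3), (34, 4), (92, 10), (37, 15), (17, 1), (26, 2), (25, 3), (33, 4), (18, 1), (29, 2), (22, 3), (32, 4), (3, 1), (19, 1), (27, 2), (24, 3), (31, 4), (91, 10), (38, 15), (71, 5), (52, 20), (40, 9), (84, 13), (60, 17), (103, 21), (88, 13), (56, 17), (77, 12), (67, 18), (49, 6), (81, 12), (63, 18), (94, 24), (20, 1), (36, 4), (45, 14), (98, 16), (4, 1), (69, 8), (42, 9), (85, 13), (59, 17), (101, 21), (74, 22), (5, 1), (47, 6), (54, 7), (79, 12), (65, 18), (89, 23), (96, 24), (44, 11), (99, 19), (21, 1), (35, 4), (43, 11),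 (100, 19), (6, 1), (50, 6), (53, 7), (78, 12), (66, 18), (90, 23), (93, 24), (7, 1), (70, 8), (39, 9), (86, 13), (58, 17), (104, 21), (73, 22), (46, 14), (97, 16), (72, 5), (51, 20), (48, 6), (76, 12), (68, 18), (95, 24), (80, 12), (64, 18), (83, 13), (61, 17), (41, 9), (87, 13), (57, 17), (102, 21)],
    [(8, 4), (0, 1), (10, 4), (9, 1), (12, 18), (11, 17), (14, 13), (13, 12), (1, 4), (15, 4), (30, 1), (75, 18), (82, 17), (55, 13), (62, 12), (3, 4), (19, 4), (27, 3), (24, 2), (31, 1), (91, 15), (38, 10), (18, 4), (29, 3), (22, 2), (32, 1), (17, 4), (26, 3), (25, 2), (33, 1), (2, 4), (16, 4), (28, 3), (23, 2), (34, 1), (92, 15), (37, 10), (72, 20), (51, 5), (41, 21), (87, 17), (57, 13), (102, 9), (83, 17), (61, 13), (80, 18), (64, 12), (48, 24), (76, 18), (68, 12), (95, 6), (21, 4), (35, 1), (46, 16), (97, 14), (7, 4), (70, 22), (39, 21), (86, 17), (58, 13), (104, 9), (73, 8), (6, 4), (50, 24), (53, 23), (78, 18),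 (66, 12), (90, 7), (93, 6), (43, 19), (100, 11), (20, 4), (36, 1), (44, 19), (99, 11), (5, 4), (47, 24), (54, 23), (79, 18), (65, 12), (89, 7), (96, 6), (4, 4), (69, 22), (42, 21), (85, 17), (59, 13), (101, 9), (74, 8), (45, 16), (98, 14), (71, 20), (52, 5), (49, 24), (81, 18), (63, 12), (94, 6), (77, 18), (67, 12), (88, 17), (56, 13), (40, 21), (84, 17), (60, 13), (103, 9)],
    [(1, 4), (0, 1), (3, 4), (2, 1), (5, 18), (4, 17), (7, 13), (6, 12), (8, 1), (30, 1), (15, 1), (82, 1), (75, 1), (62, 1), (55, 1), (9, 1), (31, 1), (26, 1), (22, 1), (16, 1), (71, 1), (51, 1), (32, 1), (27, 1), (23, 1), (17, 1), (33, 1), (28, 1), (24, 1), (18, 1), (10, 1), (34, 1), (29, 1), (25, 1), (19, 1), (72, 1), (52, 1), (91, 1), (37, 1), (93, 1), (76, 1), (63, 1), (47, 1), (77, 1), (64, 1), (83, 1), (56, 1), (101, 1), (84, 1), (57, 1), (39, 1), (35, 1), (20, 1), (73, 1), (69, 1), (11, 1), (97, 1), (94, 1), (78, 1), (65, 1), (48, 1),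 (45, 1), (12, 1), (102, 1), (99, 1), (85, 1), (58, 1), (43, 1), (40, 1), (89, 1), (53, 1), (36, 1), (21, 1), (90, 1), (54, 1), (13, 1), (103, 1), (100, 1), (86, 1), (59, 1), (44, 1), (41, 1), (14, 1), (98, 1), (95, 1), (79, 1), (66, 1), (49, 1), (46, 1), (74, 1), (70, 1), (92, 1), (38, 1), (104, 1), (87, 1), (60, 1), (42, 1), (88, 1), (61, 1), (80, 1), (67, 1), (96, 1), (81, 1), (68, 1), (50, 1)],
    [(28, 2), (22, 1), (19, 3), (30, 4), (83, 20), (60, 22), (67, 5), (76, 7), (17, 1), (31, 3), (10, 4), (46, 20), (94, 22), (99, 5), (41, 7), (34, 2), (16, 4), (8, 1), (23, 3), (2, 2), (37, 22), (92, 7), (1, 1), (18, 2), (24, 4), (33, 1), (26, 1), (29, 3), (0, 3), (27, 2), (3, 4), (9, 2), (32, 4), (25, 1), (15, 3), (85, 20), (66, 5), (20, 16), (79, 21), (53, 15), (77, 3), (14, 11), (57, 24), (43, 4), (47, 12), (84, 3), (11, 10), (44, 17), (48, 4), (69, 11), (82, 23), (71, 13), (65, 14), (39, 5), (64, 19), (70, 13), (63,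 24), (42, 21), (91, 9), (78, 17), (5, 16), (95, 2), (101, 14), (56, 21), (54, 23), (52, 8), (36, 15), (6, 15), (100, 2), (49, 7), (55, 18), (51, 18), (86, 19), (88, 14), (96, 20), (89, 18), (7, 11), (40, 2), (59, 12), (38, 24), (87, 9), (93, 6), (50, 19), (4, 10), (45, 2), (35, 10), (72, 23), (80, 6), (73, 8), (75, 13), (102, 22), (58, 6), (21, 11), (81, 9), (12, 16), (61, 3), (74, 10), (104, 17), (98, 4), (13, 15), (68, 3), (62, 8), (90, 16), (103, 4), (97, 12)],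
    [(27, 3), (25, 1), (30, 4), (16, 3), (81, 7), (64, 5), (57, 22), (88, 20), (18, 1), (9, 4), (34, 3), (40, 7), (100, 5), (95, 22), (45, 20), (31, 2), (3, 2), (24, 3), (8, 1), (19, 4), (91, 7), (38, 22), (32, 1), (23, 4), (17, 2), (1, 1), (28, 2), (0, 2), (26, 3), (29, 1), (2, 4), (15, 3), (22, 1), (33, 4), (10, 2), (65, 5), (86, 20), (78, 21), (21, 16), (60, 24), (11, 11), (80, 3), (54, 15), (50, 12), (44, 4), (14, 10), (87, 3), (82, 23), (70, 11), (49, 4), (43, 17), (66, 14), (72, 13), (67, 19), (42, 5), (69, 13), (94, 2), (6, 16), (79, 17), (92, 9), (39, 21), (68, 24), (104, 14), (99, 2), (5, 15), (35, 15), (51, 8), (53, 23), (61, 21), (55, 18), (48, 7), (85, 19), (52, 18), (93, 20), (83, 14), (90, 18), (96, 6), (84, 9), (37, 24), (58, 12), (41, 2), (4, 11), (47, 19), (74, 8), (77, 6), (71, 23), (36, 10), (46, 2), (7, 10), (103, 22), (75, 13), (20, 11), (59, 6), (73, 10), (56, 3), (13, 16), (76, 9), (97, 4), (101,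 17), (63, 3), (12, 15), (98, 12), (102, 4), (89, 16), (62, 8)],
    [(28, 3), (17, 1), (10, 4), (31, 3), (41, 7), (99, 5), (94, 22), (46, 20), (22, 1), (30, 4), (19, 3), (76, 7), (67, 5), (60, 22), (83, 20), (34, 2), (2, 2), (23, 3), (8, 1), (16, 4), (92, 7), (37, 22), (29, 1), (27, 4), (26, 2), (0, 1), (24, 2), (1, 3), (33, 3), (18, 1), (3, 1), (9, 3), (32, 1), (25, 4), (15, 2), (85, 5), (66, 20), (86, 21), (51, 16), (48, 24), (82, 11), (44, 3), (69, 15), (39, 12), (64, 4), (55, 10), (49, 3), (14, 23), (53, 11), (57, 4), (77, 17), (58, 14), (21, 13), (43, 19), (47, 5), (89, 13), (87, 2), (7, 5), (59, 17), (38, 9), (93, 21), (40, 24), (50, 14), (80, 2), (4, 8), (72, 15), (35, 8), (73, 23), (45, 21), (11, 18), (84, 7), (79, 19), (20, 18), (104, 20), (98, 14), (70, 18), (42, 6), (95, 9), (91, 24), (78, 12), (63, 2), (5, 20), (101, 19), (54, 8), (100, 6), (36, 23), (52, 10), (56, 2), (6, 23), (68, 22), (13, 13), (71,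 11), (65, 6), (90, 10), (97, 3), (62, 16), (103, 9), (88, 4), (96, 17), (102, 3), (75, 15), (61, 12), (81, 4), (74, 16), (12, 8)],
    [(27, 2), (18, 1), (34, 3), (9, 4), (45, 20), (95, 22), (100, 5), (40, 7), (25, 1), (16, 3), (30, 4), (88, 20), (57, 22), (64, 5), (81, 7), (31, 2), (19, 4), (8, 1), (24, 3), (3, 2), (38, 22), (91, 7), (0, 4), (29, 2), (28, 4), (26, 1), (17, 1), (32, 3), (1, 3), (23, 2), (2, 1), (15, 2), (22, 4), (33, 1), (10, 3), (65, 20), (86, 5), (52, 16), (85, 21), (70, 15), (43, 3), (82, 11), (49, 24), (67, 4), (42, 12), (48, 3), (55, 10), (80, 17), (60, 4), (54, 11), (11, 23), (20, 13), (59, 14), (50, 5), (44, 19), (90, 13), (41, 24), (96, 21), (37, 9), (58, 17), (4, 5), (84, 2), (47, 14), (46, 21), (74, 23), (36, 8), (71, 15), (7, 8), (77, 2), (87, 7), (14, 18), (21, 18), (78, 19), (97, 14), (101, 20), (69, 18), (6, 20), (68, 2), (79, 12), (92, 24), (94, 9), (39, 6), (104, 19), (5, 23), (61,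 2), (51, 10), (35, 23), (99, 6), (53, 8), (12, 13), (63, 22), (66, 6), (72, 11), (102, 9), (62, 16), (98, 3), (89, 10), (93, 17), (83, 4), (75, 15), (103, 3), (13, 8), (73, 16), (76, 4), (56, 12)],
    [(24, 2), (32, 1), (16, 3), (10, 4), (98, 20), (48, 22), (43, 5), (103, 7), (26, 1), (34, 3), (15, 4), (56, 20), (87, 22), (80, 5), (63, 7), (19, 2), (31, 4), (8, 1), (27, 3), (3, 3), (91, 22), (38, 7), (0, 1), (22, 2), (23, 4), (25, 1), (33, 1), (18, 3), (1, 2), (28, 2), (2, 4), (30, 2), (29, 4), (17, 1), (9, 3), (79, 20), (58, 5), (71, 16), (59, 21), (73, 15), (100, 3), (55, 11), (94, 24), (77, 4), (101, 12), (95, 3), (82, 10), (64, 17), (84, 4), (89, 11), (14, 23), (36, 13), (85, 14), (93, 5), (99, 19), (53, 13), (102, 24), (47, 21), (92, 9), (86, 17), (4, 20), (60, 2), (96, 14), (97, 21), (69, 23), (20, 8), (52, 15), (7, 22), (67, 2), (57, 7), (11, 18), (35, 18), (66, 19), (46, 14), (42, 20), (74, 18), (6, 5), (76,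 2), (65, 12), (37, 24), (49, 9), (104, 6), (39, 19), (5, 7), (83, 2), (72, 10), (21, 23), (44, 6), (90, 8), (13, 13), (81, 22), (78, 6), (51, 11), (41, 9), (75, 16), (45, 3), (54, 10), (50, 17), (61, 4), (62, 15), (40, 3), (12, 8), (70, 16), (68, 4), (88, 12)],
    [(23, 3), (33, 1), (9, 4), (19, 3), (102, 7), (44, 5), (49, 22), (97, 20), (29, 1), (15, 4), (31, 3), (68, 7), (77, 5), (84, 22), (61, 20), (16, 2), (2, 3), (28, 3), (8, 1), (34, 4), (37, 7), (92, 22), (22, 1), (24, 4), (25, 2), (0, 4), (27, 2), (1, 2), (17, 3), (32, 1), (3, 4), (10, 3), (18, 1), (26, 4), (30, 2), (59, 5), (78, 20), (58, 21), (72, 16), (95, 24), (55, 11), (99, 3), (74, 15), (104, 12), (80, 4), (82, 10), (94, 3), (11, 23), (90, 11), (87, 4), (67, 17), (86, 14), (35, 13), (100, 19), (96, 5), (54, 13), (57, 2), (7, 20), (85, 17), (91, 9), (50, 21), (103, 24), (93, 14), (64, 2), (4, 22), (51, 15), (21, 8), (70, 23), (98, 21), (14, 18), (60,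 7), (65, 19), (36, 18), (39, 20), (45, 14), (73, 18), (101, 6), (48, 9), (38, 24), (66, 12), (81, 2), (5, 5), (42, 19), (89, 8), (43, 6), (20, 23), (71, 10), (88, 2), (6, 7), (76, 22), (12, 13), (52, 11), (79, 6), (53, 10), (46, 3), (75, 16), (40, 9), (56, 4), (47, 17), (41, 3), (62, 15), (83, 12), (63, 4), (69, 16), (13, 8)],
    [(24, 3), (26, 1), (15, 4), (34, 3), (63, 7), (80, 5), (87, 22), (56, 20), (32, 1), (10, 4), (16, 3), (103, 7), (43, 5), (48, 22), (98, 20), (19, 2), (3, 3), (27, 3), (8, 1), (31, 4), (38, 7), (91, 22), (18, 1), (28, 4), (33, 2), (1, 4), (23, 2), (0, 3), (25, 3), (22, 1), (2, 1), (30, 3), (29, 1), (17, 4), (9, 2), (79, 5), (58, 20), (66, 21), (35, 16), (84, 24), (14, 11), (64, 3), (89, 15), (93, 12), (99, 4), (11, 10), (57, 3), (55, 23), (73, 11), (94, 4), (100, 17), (78, 14), (51, 13), (77, 19), (101, 5), (74, 13), (49, 2), (6, 14), (65, 17), (37, 9), (104, 21), (76, 24), (39, 14), (44,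 2), (5, 10), (21, 15), (72, 8), (90, 23), (83, 21), (82, 18), (95, 7), (59, 19), (71, 18), (50, 20), (61, 14), (53, 18), (47, 6), (60, 9), (92, 24), (86, 12), (102, 2), (4, 19), (96, 19), (69, 8), (67, 6), (52, 23), (20, 10), (97, 2), (7, 15), (40, 22), (62, 13), (36, 11), (85, 6), (70, 10), (88, 3), (12, 16), (68, 9), (46, 4), (42, 17), (81, 3), (13, 15), (45, 12), (41, 4), (54, 16), (75, 8)],
    [(23, 2), (29, 1), (31, 3), (15, 4), (61, 20), (84, 22), (77, 5), (68, 7), (33, 1), (19, 3), (9, 4), (97, 20), (49, 22), (44, 5), (102, 7), (16, 2), (34, 4), (8, 1), (28, 3), (2, 3), (92, 22), (37, 7), (1, 4), (32, 2), (27, 4), (17, 1), (25, 1), (22, 3), (0, 2), (24, 2), (3, 1), (10, 2), (18, 4), (26, 1), (30, 3), (59, 20), (78, 5), (36, 16), (65, 21), (90, 15), (67, 3), (11, 11), (87, 24), (100, 4), (96, 12), (60, 3), (14, 10), (99, 17), (95, 4), (74, 11), (55, 23), (52, 13), (79, 14), (104, 5), (80, 19), (73, 13), (81,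 24), (101, 21), (38, 9), (66, 17), (5, 14), (48, 2), (42, 14), (88, 21), (89, 23), (71, 8), (20, 15), (6, 10), (43, 2), (94, 7), (82, 18), (72, 18), (58, 19), (56, 14), (47, 20), (54, 18), (7, 19), (103, 2), (85, 12), (91, 24), (57, 9), (50, 6), (93, 19), (4, 15), (98, 2), (21, 10), (51, 23), (64, 6), (70, 8), (62, 13), (41, 22), (86, 6), (35, 11), (63, 9), (13, 16), (83, 3), (69, 10), (39, 17), (45, 4), (12, 15), (76, 3), (75, 8), (53, 16), (40, 4), (46, 12)],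
    [(22, 1), (17, 1), (34, 2), (3, 4), (70, 13), (101, 14), (89, 18), (50, 19), (28, 2), (19, 3), (30, 1), (67, 14), (76, 10), (83, 19), (60, 15), (31, 3), (16, 4), (1, 1), (26, 1), (9, 2), (71, 13), (51, 18), (0, 1), (23, 1), (25, 2), (24, 3), (18, 1), (32, 2), (8, 3), (29, 4), (10, 1), (15, 2), (27, 3), (33, 4), (2, 3), (86, 11), (65, 16), (92, 12), (66, 2), (45, 12), (53, 16), (62, 20), (42, 4), (88, 17), (49, 21), (39, 17), (75, 23), (56, 12), (81, 18), (44, 24), (7, 23), (21, 13), (79, 11), (40, 22), (54, 4), (99, 14), (47, 17), (103, 18), (72, 22), (78, 1), (14, 5), (68, 6), (41, 10), (69, 16), (98, 17), (36, 22), (38, 3), (11, 8), (61, 9), (63, 22), (4, 18), (20, 18), (58, 16), (73, 4), (95, 7), (46, 19), (12, 20), (84, 21), (59, 1), (52, 7), (104, 12), (48, 13), (94, 15), (13, 23), (77, 24), (91, 3), (35, 7), (90, 11), (43, 12), (6, 13), (87, 7), (85, 2), (37, 17), (93, 4), (82, 5), (74, 11), (100, 17), (102,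 6), (64, 12), (55, 8), (96, 12), (5, 8), (97, 9), (57, 13), (80, 17)],
    [(25, 4), (18, 1), (2, 4), (31, 2), (47, 19), (90, 18), (104, 14), (69, 13), (27, 2), (30, 1), (16, 3), (57, 15), (88, 19), (81, 10), (64, 14), (34, 3), (10, 2), (29, 1), (1, 1), (19, 4), (52, 18), (72, 13), (23, 3), (22, 2), (24, 1), (0, 4), (26, 4), (8, 3), (33, 2), (17, 1), (9, 1), (3, 3), (32, 4), (28, 3), (15, 2), (66, 16), (85, 11), (65, 2), (91, 12), (39, 4), (62, 20), (54, 16), (46, 12), (48, 21), (83, 17), (75, 23), (42, 17), (4, 23), (43, 24), (76, 18), (61, 12), (78, 11), (20, 13), (53, 4), (41, 22), (100, 14), (63, 6), (11, 5), (79, 1), (71, 22), (102, 18), (50, 17), (40, 10), (56, 9), (14, 8), (37, 3), (35, 22), (97, 17), (70, 16), (7, 18), (68, 22), (59, 16), (21, 18), (94, 7), (74, 4), (45, 19), (49, 13), (101, 12), (51, 7), (58, 1), (87, 21), (13, 20), (95, 15), (44, 12), (89, 11), (36, 7), (92, 3), (80, 24), (12, 23), (84, 7),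 (5, 13), (38, 17), (86, 2), (99, 17), (73, 11), (82, 5), (96, 4), (67, 12), (103, 6), (93, 12), (55, 8), (77, 17), (60, 13), (98, 9), (6, 8)],
    [(32, 1), (26, 1), (19, 2), (2, 4), (53, 13), (96, 14), (74, 18), (39, 19), (24, 2), (16, 3), (10, 1), (43, 14), (103, 10), (98, 19), (48, 15), (34, 3), (31, 4), (0, 1), (33, 1), (30, 2), (36, 13), (35, 18), (1, 4), (27, 1), (17, 2), (23, 3), (22, 1), (29, 2), (8, 3), (18, 4), (15, 1), (9, 2), (28, 3), (25, 4), (3, 2), (66, 11), (85, 16), (38, 12), (58, 2), (83, 12), (73, 16), (12, 20), (47, 4), (46, 17), (57, 21), (93, 17), (13, 23), (97, 12), (41, 18), (64, 24), (6, 22), (51, 13), (59, 11), (76, 22), (69, 4), (80, 14), (101, 17), (68, 18), (21, 22), (86, 1), (55, 5), (40, 6), (63, 10), (89, 16), (61, 17), (52, 22), (37, 3), (82, 8), (45, 9), (102, 22), (5, 17), (71, 18), (78, 16), (90, 4), (60, 7), (56, 19), (75, 20), (95, 21), (65, 1), (20, 7), (50, 12), (84, 13), (87,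 15), (62, 23), (100, 24), (92, 3), (72, 7), (70, 11), (77, 12), (7, 12), (49, 7), (79, 2), (91, 17), (104, 4), (14, 5), (54, 11), (67, 17), (81, 6), (99, 12), (11, 8), (42, 12), (4, 7), (88, 9), (94, 13), (44, 17)],
    [(33, 4), (29, 1), (3, 4), (16, 2), (42, 19), (73, 18), (93, 14), (54, 13), (23, 2), (9, 1), (19, 3), (49, 15), (97, 19), (102, 10), (44, 14), (31, 3), (30, 2), (32, 1), (0, 4), (34, 4), (36, 18), (35, 13), (24, 3), (18, 2), (28, 1), (1, 4), (17, 4), (8, 3), (26, 2), (25, 1), (15, 1), (2, 2), (22, 4), (27, 3), (10, 2), (86, 16), (65, 11), (59, 2), (37, 12), (50, 4), (13, 20), (74, 16), (88, 12), (60, 21), (45, 17), (12, 23), (96, 17), (5, 22), (67, 24), (40, 18), (98, 12), (58, 11), (52, 13), (70, 4), (81, 22), (77, 14), (41, 6), (55, 5), (85, 1), (20, 22), (63, 18), (104, 17), (68, 10), (46, 9), (82, 8), (38, 3), (51, 22), (56, 17), (90, 16), (6, 17), (103, 22), (79, 16), (72, 18), (57, 7), (89, 4),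 (61, 19), (87, 13), (47, 12), (21, 7), (66, 1), (94, 21), (75, 20), (84, 15), (80, 12), (69, 11), (71, 7), (91, 3), (99, 24), (62, 23), (48, 7), (4, 12), (92, 17), (78, 2), (64, 17), (53, 11), (11, 5), (101, 4), (100, 12), (76, 6), (39, 12), (14, 8), (43, 17), (95, 13), (83, 9), (7, 7)],
    [(33, 1), (29, 1), (16, 2), (3, 4), (54, 13), (93, 14), (73, 18), (42, 19), (23, 3), (9, 4), (19, 2), (49, 10), (97, 11), (102, 15), (44, 16), (15, 4), (2, 3), (22, 1), (27, 2), (10, 3), (86, 14), (65, 19), (17, 1), (8, 2), (26, 3), (25, 4), (24, 2), (18, 3), (28, 4), (1, 1), (31, 2), (30, 3), (32, 4), (0, 1), (34, 1), (36, 12), (35, 17), (92, 13), (78, 3), (43, 13), (95, 17), (83, 21), (7, 23), (39, 18), (14, 22), (100, 18), (76, 24), (64, 13), (53, 19), (11, 20), (101, 1), (79, 14), (72, 12), (48, 23), (4, 18), (84, 10), (80, 18), (69, 19), (71, 23), (91, 2), (99, 6), (62, 7), (61, 11), (87, 17), (47, 18), (21, 23), (66, 4),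 (94, 9), (75, 5), (57, 23), (89, 1), (58, 19), (52, 17), (6, 13), (103, 8), (68, 15), (46, 21), (82, 22), (38, 2), (51, 8), (56, 13), (90, 14), (77, 16), (41, 24), (55, 20), (85, 4), (20, 8), (63, 12), (104, 13), (70, 1), (81, 8), (59, 3), (37, 18), (5, 8), (67, 6), (40, 12), (98, 18), (12, 7), (96, 13), (60, 9), (45, 13), (50, 1), (13, 5), (74, 14), (88, 18)],
    [(32, 4), (26, 1), (2, 4), (19, 2), (39, 19), (74, 18), (96, 14), (53, 13), (24, 3), (16, 2), (10, 4), (43, 16), (103, 15), (98, 11), (48, 10), (15, 4), (9, 3), (28, 2), (25, 1), (3, 3), (66, 19), (85, 14), (22, 4), (29, 3), (8, 2), (18, 1), (1, 1), (27, 4), (17, 3), (23, 2), (34, 2), (31, 1), (0, 4), (33, 4), (30, 3), (36, 17), (35, 12), (79, 3), (91, 13), (4, 23), (88, 21), (94, 17), (44, 13), (11, 22), (42, 18), (81, 24), (99, 18), (104, 1), (14, 20), (54, 19), (67, 13), (71, 12), (78, 14), (7, 18), (49, 23), (87, 10), (62, 7), (100, 6), (92, 2), (72,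 23), (70, 19), (77, 18), (56, 11), (75, 5), (95, 9), (65, 4), (20, 23), (50, 18), (84, 17), (90, 1), (60, 23), (51, 17), (59, 19), (102, 8), (5, 13), (63, 15), (89, 14), (61, 13), (52, 8), (37, 2), (82, 22), (45, 21), (80, 16), (101, 13), (68, 12), (21, 8), (86, 4), (55, 20), (40, 24), (76, 8), (69, 1), (38, 18), (58, 3), (97, 18), (41, 12), (64, 6), (6, 8), (93, 13), (13, 7), (46, 13), (57, 9), (83, 18), (73, 14), (12, 5), (47, 1)],
    [(25, 1), (18, 1), (31, 2), (2, 4), (69, 13), (104, 14), (90, 18), (47, 19), (27, 3), (30, 4), (16, 2), (57, 10), (88, 11), (81, 15), (64, 16), (9, 4), (3, 2), (32, 1), (28, 2), (15, 3), (66, 14), (85, 19), (26, 1), (8, 2), (33, 3), (17, 4), (23, 2), (22, 3), (24, 4), (0, 1), (34, 2), (10, 3), (29, 4), (1, 4), (19, 1), (52, 12), (72, 17), (38, 13), (86, 3), (77, 13), (60, 17), (98, 21), (6, 22), (93, 18), (55, 22), (67, 18), (103, 24), (99, 13), (73, 19), (82, 20), (96, 1), (59, 14),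 (21, 12), (84, 23), (5, 17), (95, 10), (44, 18), (89, 19), (36, 23), (92, 2), (80, 6), (12, 7), (45, 11), (49, 17), (101, 18), (51, 23), (58, 4), (87, 9), (13, 5), (94, 23), (74, 1), (78, 19), (20, 17), (7, 12), (68, 8), (40, 15), (56, 21), (14, 22), (37, 2), (35, 8), (97, 13), (70, 14), (100, 16), (63, 24), (11, 20), (79, 4), (71, 8), (102, 12), (50, 13), (53, 1), (41, 8), (65, 3), (91, 18), (4, 7), (43, 6), (76, 12), (61, 18), (75, 7), (42, 13), (48, 9), (83, 13), (39, 1), (62, 5), (54, 14), (46, 18)],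
    [(22, 4), (17, 1), (3, 4), (34, 2), (50, 19), (89, 18), (101, 14), (70, 13), (28, 3), (19, 2), (30, 4), (67, 16), (76, 15), (83, 11), (60, 10), (10, 4), (15, 3), (27, 2), (33, 1), (2, 2), (86, 19), (65, 14), (18, 4), (32, 3), (8, 2), (29, 1), (0, 4), (23, 4), (25, 3), (24, 2), (31, 2), (16, 1), (1, 4), (26, 4), (9, 3), (71, 17), (51, 12), (85, 3), (37, 13), (5, 22), (97, 21), (57, 17), (80, 13), (55, 22), (96, 18), (102, 24), (64, 18), (93, 1), (82, 20), (74, 19), (100, 13), (20, 12), (58, 14), (6, 17), (87, 23), (94, 10), (13, 7), (77, 6), (91, 2), (35, 23), (90, 19), (43, 18), (46, 11), (12, 5), (84, 9), (59, 4), (52, 23), (104, 18), (48, 17), (73, 1), (95, 23), (21, 17), (79, 19), (63, 8), (4, 12), (41, 15), (69, 14), (98, 13), (36, 8), (38, 2), (11, 22), (61, 21), (99, 16), (47, 13), (103, 12), (72, 8), (78, 4), (14, 20), (68, 24), (40, 8), (54, 1), (92, 18), (66, 3), (56, 18), (81, 12), (44, 6), (7, 7), (39,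 13), (75, 7), (88, 13), (49, 9), (45, 18), (53, 14), (62, 5), (42, 1)],
    [(1, 1), (0, 1), (2, 1), (3, 4), (6, 12), (7, 13), (4, 17), (5, 18), (8, 4), (30, 4), (15, 4), (82, 4), (75, 4), (62, 4), (55, 4), (10, 4), (34, 4), (29, 4), (25, 4), (19, 4), (72, 4), (52, 4), (33, 4), (28, 4), (24, 4), (18, 4), (32, 4), (27, 4), (23, 4), (17, 4), (9, 4), (31, 4), (26, 4), (22, 4), (16, 4), (71, 4), (51, 4), (92, 4), (38, 4), (96, 4), (81, 4), (68, 4), (50, 4), (80, 4), (67, 4), (88, 4), (61, 4), (104, 4), (87, 4), (60, 4), (42, 4), (36, 4), (21, 4), (74, 4), (70, 4), (14, 4), (98, 4), (95, 4), (79, 4), (66, 4), (49, 4), (46, 4), (13, 4), (103, 4), (100, 4), (86, 4), (59, 4), (44, 4), (41, 4), (90, 4), (54, 4), (35, 4), (20, 4), (89, 4), (53, 4), (12, 4), (102, 4), (99, 4), (85, 4), (58, 4), (43, 4), (40, 4), (11, 4), (97, 4), (94, 4), (78, 4), (65, 4), (48, 4), (45, 4), (73, 4), (69, 4), (91, 4), (37, 4), (101, 4), (84, 4),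 (57, 4), (39, 4), (83, 4), (56, 4), (77, 4), (64, 4), (93, 4), (76, 4), (63, 4), (47, 4)],
    [(23, 3), (29, 1), (15, 4), (31, 3), (68, 7), (77, 5), (84, 22), (61, 20), (33, 4), (19, 2), (9, 1), (97, 5), (49, 8), (44, 20), (102, 23), (3, 4), (10, 3), (18, 1), (26, 4), (30, 2), (59, 5), (78, 20), (25, 4), (22, 2), (0, 3), (24, 3), (1, 1), (32, 3), (27, 1), (17, 4), (16, 3), (34, 1), (8, 4), (28, 2), (2, 2), (92, 8), (37, 23), (86, 24), (35, 19), (75, 22), (53, 14), (40, 1), (46, 18), (12, 10), (76, 2), (39, 13), (45, 1), (63, 21), (13, 14), (83, 2), (69, 15), (72, 12), (58, 11), (62, 17), (41, 8), (93, 11), (4, 10), (98, 3), (21, 15), (51, 7), (64, 24), (70, 22), (54, 12), (7, 11), (103, 3), (85, 18), (91, 6), (57, 21), (50, 24), (56, 16), (47, 5), (52, 17), (79, 16), (94, 23), (82, 12), (42, 16), (88, 9), (89, 7), (71, 22), (20, 10), (6, 15), (43, 3), (73, 17), (81, 6), (101, 9), (38, 21), (66, 13), (5, 16), (48,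 3), (104, 20), (80, 11), (36, 14), (65, 9), (99, 13), (95, 1), (74, 19), (55, 7), (60, 2), (14, 15), (100, 1), (96, 18), (90, 10), (67, 2), (11, 19), (87, 6)],
    [(24, 2), (26, 1), (34, 3), (15, 4), (56, 20), (87, 22), (80, 5), (63, 7), (32, 4), (10, 1), (16, 2), (103, 23), (43, 20), (48, 8), (98, 5), (2, 4), (30, 2), (29, 4), (17, 1), (9, 3), (79, 20), (58, 5), (23, 3), (0, 2), (25, 2), (22, 4), (18, 4), (28, 1), (33, 3), (1, 1), (19, 3), (3, 2), (27, 2), (8, 4), (31, 1), (38, 23), (91, 8), (36, 19), (85, 24), (45, 18), (41, 1), (54, 14), (75, 22), (81, 2), (13, 10), (46, 1), (42, 13), (70, 15), (88, 2), (12, 14), (68, 21), (59, 11), (71, 12), (40, 8), (62, 17), (96, 11), (69, 22), (67, 24), (52, 7), (20, 15), (97, 3), (7, 10), (53, 12), (47, 24), (60, 21), (92, 6), (86, 18), (102, 3), (4, 11), (50, 5), (61, 16), (78, 16), (51, 17), (82, 12), (95, 23), (39, 16), (44, 3), (5, 15), (21, 10), (72, 22), (90, 7), (83,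 9), (74, 17), (49, 3), (6, 16), (65, 13), (37, 21), (104, 9), (76, 6), (77, 11), (101, 20), (66, 9), (35, 14), (55, 7), (73, 19), (94, 1), (100, 13), (11, 15), (57, 2), (93, 18), (99, 1), (84, 6), (14, 19), (64, 2), (89, 10)],
    [(23, 2), (33, 1), (19, 3), (9, 4), (97, 20), (49, 22), (44, 5), (102, 7), (29, 4), (15, 1), (31, 2), (68, 23), (77, 20), (84, 8), (61, 5), (3, 1), (10, 2), (18, 4), (26, 1), (30, 3), (59, 20), (78, 5), (27, 3), (1, 3), (17, 2), (32, 4), (22, 4), (24, 1), (25, 3), (0, 1), (16, 3), (2, 2), (28, 2), (8, 4), (34, 1), (37, 23), (92, 8), (52, 19), (79, 24), (83, 18), (63, 1), (69, 14), (13, 22), (41, 2), (62, 10), (56, 1), (47, 13), (53, 15), (46, 2), (75, 14), (40, 21), (65, 11), (36, 12), (76, 8), (12, 17), (42, 11), (89, 22), (43, 24), (20, 7), (71, 15), (88, 3), (6, 23), (73, 12), (101, 24), (48, 21), (38, 6), (66, 18), (81, 3), (5, 20), (39, 5), (45, 16), (86, 16), (35, 17), (14, 12), (60,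 23), (93, 16), (64, 3), (4, 8), (51, 10), (21, 22), (70, 7), (98, 9), (54, 17), (57, 3), (7, 5), (85, 13), (91, 21), (50, 9), (103, 6), (100, 11), (96, 20), (58, 9), (72, 14), (11, 7), (90, 19), (87, 1), (67, 13), (82, 15), (94, 2), (104, 18), (80, 1), (95, 6), (55, 19), (99, 2), (74, 10)],
    [(24, 3), (32, 1), (10, 4), (16, 3), (103, 7), (43, 5), (48, 22), (98, 20), (26, 4), (34, 2), (15, 1), (56, 5), (87, 8), (80, 20), (63, 23), (2, 1), (30, 3), (29, 1), (17, 4), (9, 2), (79, 5), (58, 20), (33, 4), (18, 2), (1, 3), (28, 3), (0, 4), (22, 3), (23, 1), (25, 4), (19, 3), (31, 1), (8, 4), (27, 2), (3, 2), (91, 8), (38, 23), (78, 24), (51, 19), (12, 22), (70, 14), (68, 1), (88, 18), (62, 10), (40, 2), (50, 13), (61, 1), (41, 21), (75, 14), (45, 2), (54, 15), (35, 12), (66, 11), (13, 17), (81, 8), (39, 11), (5, 23), (83, 3), (72, 15), (21, 7), (44, 24), (90, 22), (74, 12), (6, 20), (76, 3), (65, 18), (37, 6), (49, 21),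 (104, 24), (46, 16), (42, 5), (36, 17), (85, 16), (57, 23), (11, 12), (96, 16), (97, 9), (69, 7), (20, 22), (52, 10), (7, 8), (67, 3), (53, 17), (102, 6), (47, 9), (92, 21), (86, 13), (4, 5), (60, 3), (93, 20), (99, 11), (71, 14), (59, 9), (64, 13), (84, 1), (89, 19), (14, 7), (95, 2), (82, 15), (77, 1), (101, 18), (73, 10), (100, 2), (55, 19), (94, 6)],
    [(27, 3), (18, 1), (9, 4), (34, 3), (40, 7), (100, 5), (95, 22), (45, 20), (25, 4), (16, 2), (30, 1), (88, 5), (57, 8), (64, 20), (81, 23), (2, 4), (15, 3), (22, 1), (33, 4), (10, 2), (65, 5), (86, 20), (17, 4), (32, 2), (1, 2), (23, 3), (0, 1), (29, 3), (28, 1), (26, 4), (31, 3), (19, 1), (8, 4), (24, 2), (3, 3), (38, 8), (91, 23), (66, 24), (72, 19), (13, 22), (73, 14), (76, 1), (56, 18), (75, 10), (103, 2), (93, 13), (83, 1), (102, 21), (62, 14), (98, 2), (89, 15), (21, 12), (78, 11), (12, 17), (63, 8), (104, 11), (5, 7), (61, 3), (51, 15), (35, 7), (99, 24),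 (53, 22), (69, 12), (6, 5), (68, 3), (79, 18), (92, 6), (94, 21), (39, 24), (97, 16), (101, 5), (20, 17), (59, 16), (87, 23), (14, 12), (47, 16), (46, 9), (74, 7), (36, 22), (71, 10), (7, 22), (77, 3), (90, 17), (41, 6), (96, 9), (37, 21), (58, 13), (4, 20), (84, 3), (50, 20), (44, 11), (52, 14), (85, 9), (80, 13), (60, 1), (54, 19), (11, 7), (48, 2), (55, 15), (67, 1), (42, 18), (70, 10), (43, 2), (82, 19), (49, 6)],
    [(28, 2), (17, 1), (31, 3), (10, 4), (46, 20), (94, 22), (99, 5), (41, 7), (22, 4), (30, 1), (19, 2), (76, 23), (67, 20), (60, 8), (83, 5), (3, 4), (9, 2), (32, 4), (25, 1), (15, 3), (85, 20), (66, 5), (24, 3), (1, 2), (33, 2), (18, 4), (29, 4), (27, 1), (26, 3), (0, 4), (34, 3), (2, 3), (23, 2), (8, 4), (16, 1), (92, 23), (37, 8), (71, 19), (65, 24), (61, 18), (81, 1), (74, 14), (12, 22), (102, 2), (75, 10), (88, 1), (96, 13), (90, 15), (97, 2), (62, 14), (103, 21), (79, 11), (20, 12), (68, 8), (13,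 17), (101, 11), (54, 22), (100, 24), (36, 7), (52, 15), (56, 3), (6, 7), (70, 12), (42, 24), (95, 21), (91, 6), (78, 18), (63, 3), (5, 5), (104, 5), (98, 16), (58, 16), (21, 17), (11, 12), (84, 23), (50, 16), (80, 3), (4, 22), (72, 10), (35, 22), (73, 7), (45, 9), (89, 17), (87, 3), (7, 20), (59, 13), (38, 21), (93, 9), (40, 6), (43, 11), (47, 20), (86, 9), (51, 14), (14, 7), (53, 19), (57, 1), (77, 13), (55, 15), (49, 2), (39, 18), (64, 1), (48, 6), (82, 19), (44, 2), (69, 10)],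
    [(27, 2), (25, 1), (16, 3), (30, 4), (88, 20), (57, 22), (64, 5), (81, 7), (18, 4), (9, 1), (34, 2), (40, 23), (100, 20), (95, 8), (45, 5), (2, 1), (15, 2), (22, 4), (33, 1), (10, 3), (65, 20), (86, 5), (28, 3), (0, 3), (26, 2), (29, 4), (32, 4), (23, 1), (17, 3), (1, 4), (31, 3), (3, 3), (24, 2), (8, 4), (19, 1), (91, 23), (38, 8), (20, 19), (59, 24), (98, 18), (102, 1), (89, 14), (62, 22), (63, 2), (12, 10), (97, 1), (101, 13), (73, 15), (56, 2), (13, 14), (76, 21), (85, 11), (52, 12), (103, 8), (75, 17), (47, 11), (74, 22), (77, 24), (71, 7), (36, 15), (46, 3), (7, 15), (90, 12), (96, 24), (84, 21), (37, 6), (58, 18), (41, 3), (4, 19), (93, 5), (83, 16), (66, 16), (72, 17), (55, 12), (48, 23), (104, 16), (99, 3), (5, 10), (35, 10), (51, 22), (53, 7), (61, 9), (69, 17), (94, 3), (6, 14), (79, 13), (92, 21), (39, 9), (68, 6), (67, 11), (42, 20), (78, 9), (21, 14), (82, 7), (70, 19), (49, 1), (43, 13), (14, 15),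 (87, 2), (50, 18), (44, 1), (60, 6), (11, 19), (80, 2), (54, 10)],
    [(28, 3), (22, 1), (30, 4), (19, 3), (76, 7), (67, 5), (60, 22), (83, 20), (17, 4), (31, 2), (10, 1), (46, 5), (94, 8), (99, 20), (41, 23), (3, 1), (9, 3), (32, 1), (25, 4), (15, 2), (85, 5), (66, 20), (26, 4), (29, 2), (0, 2), (27, 3), (1, 4), (18, 3), (24, 1), (33, 4), (34, 3), (16, 1), (8, 4), (23, 2), (2, 3), (37, 8), (92, 23), (58, 24), (21, 19), (62, 22), (90, 14), (103, 1), (97, 18), (13, 10), (68, 2), (104, 13), (98, 1), (81, 21), (12, 14), (61, 2), (74, 15), (51, 12), (86, 11), (75, 17), (102, 8), (50, 11), (4, 15), (45, 3), (35, 15), (72, 7), (80, 24), (73, 22), (89, 12), (7, 19), (40, 3), (59, 18), (38, 6), (87, 21), (93, 24), (88, 16), (96, 5), (71, 17), (65, 16), (49, 23), (55, 12), (101, 16), (56, 9), (54, 7), (52, 22), (36, 10), (6, 10), (100, 3), (70, 17), (63, 6), (42, 9), (91, 21), (78, 13), (5, 14), (95, 3), (39, 20), (64, 11),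 (20, 14), (79, 9), (44, 13), (48, 1), (69, 19), (82, 7), (84, 2), (11, 15), (43, 1), (47, 18), (53, 10), (77, 2), (14, 19), (57, 6)]]

def genRot : List M3 :=
  [((1, 0, 0), (0, 0, 4), (0, 1, 0)),
    ((1, 0, 0), (0, 0, 1), (0, 4, 0)),
    ((1, 0, 0), (0, 1, 0), (0, 0, 1)),
    ((1, 0, 0), (0, 4, 0), (0, 0, 4))]

def genRotCert : List (List (ℕ × ℕ)) :=
  [[(1, 4), (0, 1), (3, 4), (2, 1), (5, 18), (4, 17), (7, 13), (6, 12), (8, 1), (30, 1), (15, 1), (82, 1), (75, 1), (62, 1), (55, 1), (9, 1), (31, 1), (26, 1), (22, 1), (16, 1), (71, 1), (51, 1), (32, 1), (27, 1), (23, 1), (17, 1), (33, 1), (28, 1), (24, 1), (18, 1), (10, 1), (34, 1), (29, 1), (25, 1), (19, 1), (72, 1), (52, 1), (91, 1), (37, 1), (93, 1), (76, 1), (63, 1), (47, 1), (77, 1), (64, 1), (83, 1), (56, 1), (101, 1), (84, 1), (57, 1), (39, 1), (35, 1), (20, 1), (73, 1), (69, 1), (11, 1), (97, 1), (94, 1), (78, 1), (65, 1), (48, 1), (45, 1), (12, 1), (102, 1),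 (99, 1), (85, 1), (58, 1), (43, 1), (40, 1), (89, 1), (53, 1), (36, 1), (21, 1), (90, 1), (54, 1), (13, 1), (103, 1), (100, 1), (86, 1), (59, 1), (44, 1), (41, 1), (14, 1), (98, 1), (95, 1), (79, 1), (66, 1), (49, 1), (46, 1), (74, 1), (70, 1), (92, 1), (38, 1), (104, 1), (87, 1), (60, 1), (42, 1), (88, 1), (61, 1), (80, 1), (67, 1), (96, 1), (81, 1), (68, 1), (50, 1)],
    [(1, 1), (0, 4), (3, 1), (2, 4), (5, 12), (4, 13), (7, 17), (6, 18), (8, 1), (15, 1), (30, 1), (55, 1), (62, 1), (75, 1), (82, 1), (10, 1), (19, 1), (25, 1), (29, 1), (34, 1), (52, 1), (72, 1), (18, 1), (24, 1), (28, 1), (33, 1), (17, 1), (23, 1), (27, 1), (32, 1), (9, 1), (16, 1), (22, 1), (26, 1), (31, 1), (51, 1), (71, 1), (38, 1), (92, 1), (50, 1), (68, 1), (81, 1), (96, 1), (67, 1), (80, 1), (61, 1), (88, 1), (42, 1), (60, 1), (87, 1), (104, 1), (21, 1), (36, 1), (70, 1), (74, 1), (14, 1), (46, 1), (49, 1), (66, 1), (79, 1), (95, 1), (98, 1),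 (13, 1), (41, 1), (44, 1), (59, 1), (86, 1), (100, 1), (103, 1), (54, 1), (90, 1), (20, 1), (35, 1), (53, 1), (89, 1), (12, 1), (40, 1), (43, 1), (58, 1), (85, 1), (99, 1), (102, 1), (11, 1), (45, 1), (48, 1), (65, 1), (78, 1), (94, 1), (97, 1), (69, 1), (73, 1), (37, 1), (91, 1), (39, 1), (57, 1), (84, 1), (101, 1), (56, 1), (83, 1), (64, 1), (77, 1), (47, 1), (63, 1), (76, 1), (93, 1)],
    [(0, 1), (1, 1), (2, 1), (3, 1), (4, 1), (5, 1), (6, 1), (7, 1), (8, 1), (9, 1), (10, 1), (11, 1), (12, 1), (13, 1), (14, 1), (15, 1), (16, 1), (17, 1), (18, 1), (19, 1), (20, 1), (21, 1), (22, 1), (23, 1), (24, 1), (25, 1), (26, 1), (27, 1), (28, 1), (29, 1), (30, 1), (31, 1), (32, 1), (33, 1), (34, 1), (35, 1), (36, 1), (37, 1), (38, 1), (39, 1), (40, 1), (41, 1), (42, 1), (43, 1), (44, 1), (45, 1), (46, 1), (47, 1), (48, 1), (49, 1), (50, 1), (51, 1), (52, 1), (53, 1), (54, 1), (55, 1), (56, 1), (57, 1), (58, 1), (59, 1), (60,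 1), (61, 1), (62, 1), (63, 1), (64, 1), (65, 1), (66, 1), (67, 1), (68, 1), (69, 1), (70, 1), (71, 1), (72, 1), (73, 1), (74, 1), (75, 1), (76, 1), (77, 1), (78, 1), (79, 1), (80, 1), (81, 1), (82, 1), (83, 1), (84, 1), (85, 1), (86, 1), (87, 1), (88, 1), (89, 1), (90, 1), (91, 1), (92, 1), (93, 1), (94, 1), (95, 1), (96, 1), (97, 1), (98, 1), (99, 1), (100, 1), (101, 1), (102, 1), (103, 1), (104, 1)],
    [(0, 4), (1, 4), (2, 4), (3, 4), (4, 4), (5, 4), (6, 4), (7, 4), (8, 1), (10, 1), (9, 1), (14, 1), (13, 1), (12, 1), (11, 1), (30, 1), (34, 1), (33, 1), (32, 1), (31, 1), (36, 1), (35, 1), (29, 1), (28, 1), (27, 1), (26, 1), (25, 1), (24, 1), (23, 1), (22, 1), (15, 1), (19, 1), (18, 1), (17, 1), (16, 1), (21, 1), (20, 1), (92, 1), (91, 1), (104, 1), (103, 1), (102, 1), (101, 1), (100, 1), (99, 1), (98, 1), (97, 1), (96, 1), (95, 1), (94, 1), (93, 1), (72, 1), (71, 1), (90, 1), (89, 1), (82, 1), (88, 1), (87, 1),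 (86, 1), (85, 1), (84, 1), (83, 1), (75, 1), (81, 1), (80, 1), (79, 1), (78, 1), (77, 1), (76, 1), (74, 1), (73, 1), (52, 1), (51, 1), (70, 1), (69, 1), (62, 1), (68, 1), (67, 1), (66, 1), (65, 1), (64, 1), (63, 1), (55, 1), (61, 1), (60, 1), (59, 1), (58, 1), (57, 1), (56, 1), (54, 1), (53, 1), (38, 1), (37, 1), (50, 1), (49, 1), (48, 1), (47, 1), (46, 1), (45, 1), (44, 1), (43, 1), (42, 1), (41, 1), (40, 1), (39, 1)]]

def uIdx : List (ℕ × ℕ × ℕ × ℕ × ℕ × ℕ) :=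
  [(0, 1, 2, 0, 0, 0), (0, 1, 2, 1, 0, 2), (0, 1, 2, 2, 0, 1), (0, 2, 1, 0, 0, 0), (0, 2, 1, 1, 0, 2), (0, 2, 1, 2, 0, 0), (1, 0, 0, 1, 1, 0), (1, 0, 1, 1, 1, 2), (1, 0, 2, 1, 1, 1), (1, 1, 0, 1, 2, 0), (1, 1, 1, 2, 2, 0), (1, 1, 2, 0, 2, 2), (1, 2, 0, 1, 0, 1), (1, 2, 1, 0, 0, 2), (1, 2, 2, 2, 0, 0), (2, 0, 0, 2, 2, 0), (2, 0, 1, 2, 2, 0), (2, 0, 2, 2, 2, 0), (2, 1, 0, 2, 1, 2), (2, 1, 1, 1, 1, 1), (2, 1, 2, 0, 1, 1), (2, 2, 0, 2, 0, 2), (2, 2, 1, 0, 0, 0), (2, 2, 2, 1, 0, 2)]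

def genU : List M3 :=
  [((7, 7, 7), (7, 15, 8), (7, 8, 15)),
    ((8, 7, 7), (8, 15, 8), (8, 8, 15)),
    ((15, 7, 7), (15, 15, 8), (15, 8, 15)),
    ((10, 10, 10), (10, 23, 22), (10, 22, 23)),
    ((8, 7, 8), (8, 8, 7), (8, 15, 15)),
    ((7, 7, 8), (7, 8, 7), (7, 15, 15)),
    ((0, 1, 0), (0, 0, 1), (1, 0, 0)),
    ((0, 1, 0), (0, 0, 1), (12, 0, 0)),
    ((0, 1, 0), (0, 0, 1), (17, 0, 0)),
    ((15, 7, 15), (15, 15, 7), (7, 15, 15)),
    ((7, 7, 15), (7, 15, 7), (8, 15, 15)),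
    ((8, 7, 15), (8, 15, 7), (15, 15, 15)),
    ((7, 7, 15), (7, 8, 8), (15, 8, 15)),
    ((8, 7, 15), (8, 8, 8), (7, 8, 15)),
    ((10, 10, 23), (10, 23, 10), (22, 23, 23)),
    ((0, 0, 4), (0, 4, 0), (4, 0, 0)),
    ((0, 0, 1), (0, 1, 0), (17, 0, 0)),
    ((0, 0, 1), (0, 1, 0), (12, 0, 0)),
    ((8, 7, 8), (8, 15, 15), (7, 7, 15)),
    ((7, 7, 8), (7, 15, 15), (15, 7, 15)),
    ((15, 7, 8), (15, 15, 15), (8, 7, 15)),
    ((8, 7, 7), (8, 8, 15), (15, 7, 15)),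
    ((7, 7, 7), (7, 8, 15), (8, 7, 15)),
    ((10, 10, 22), (10, 23, 23), (23, 10, 23))]

def genB : List M3 :=
  [((1, 0, 0), (0, 1, 0), (0, 0, 1)),
    ((12, 0, 0), (0, 12, 0), (0, 0, 12)),
    ((17, 0, 0), (0, 17, 0), (0, 0, 17)),
    ((1, 0, 0), (0, 12, 0), (0, 0, 17)),
    ((0, 0, 1), (1, 0, 0), (0, 1, 0)),
    ((19, 15, 12), (15, 19, 12), (17, 17, 6)),
    ((7, 7, 7), (7, 15, 8), (7, 8, 15)),
    ((10, 10, 10), (10, 23, 22), (10, 22, 23)),
    ((0, 1, 0), (0, 0, 1), (1, 0, 0)),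
    ((7, 7, 15), (7, 15, 7), (8, 15, 15)),
    ((10, 10, 23), (10, 23, 10), (22, 23, 23)),
    ((0, 0, 4), (0, 4, 0), (4, 0, 0)),
    ((7, 7, 8), (7, 15, 15), (15, 7, 15)),
    ((10, 10, 22), (10, 23, 23), (23, 10, 23))]

def genBCert : List (List (ℕ × ℕ)) :=
  [[(0, 1), (1, 1), (2, 1), (3, 1), (4, 1), (5, 1), (6, 1), (7, 1), (8, 1), (9, 1), (10, 1), (11, 1), (12, 1), (13, 1), (14, 1), (15, 1), (16, 1), (17, 1), (18, 1), (19, 1), (20, 1), (21, 1), (22, 1), (23, 1), (24, 1), (25, 1), (26, 1), (27, 1), (28, 1), (29, 1), (30, 1), (31, 1), (32, 1), (33, 1), (34, 1), (35, 1), (36, 1), (37, 1), (38, 1), (39, 1), (40, 1), (41, 1), (42, 1), (43, 1), (44, 1)],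
    [(0, 12), (1, 12), (2, 12), (3, 12), (4, 12), (5, 12), (6, 12), (7, 12), (8, 12), (9, 12), (10, 12), (11, 12), (12, 12), (13, 12), (14, 12), (15, 12), (16, 12), (17, 12), (18, 12), (19, 12), (20, 12), (21, 12), (22, 12), (23, 12), (24, 12), (25, 12), (26, 12), (27, 12), (28, 12), (29, 12), (30, 12), (31, 12), (32, 12), (33, 12), (34, 12), (35, 12), (36, 12), (37, 12), (38, 12), (39, 12), (40, 12), (41, 12), (42, 12), (43, 12), (44, 12)],
    [(0, 17), (1, 17), (2, 17), (3, 17), (4, 17), (5, 17), (6, 17), (7, 17), (8, 17), (9, 17), (10, 17), (11, 17), (12, 17), (13, 17), (14, 17), (15, 17), (16, 17), (17, 17), (18, 17), (19, 17), (20, 17), (21, 17), (22, 17), (23, 17), (24, 17), (25, 17), (26, 17), (27, 17), (28, 17), (29, 17), (30, 17), (31, 17), (32, 17), (33, 17), (34, 17), (35, 17), (36, 17), (37, 17), (38, 17), (39, 17), (40, 17), (41, 17), (42, 17), (43, 17), (44, 17)],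
    [(2, 12), (0, 12), (1, 12), (4, 1), (5, 1), (3, 1), (22, 1), (25, 1), (23, 1), (24, 1), (44, 1), (16, 1), (36, 1), (38, 1), (37, 1), (29, 1), (41, 1), (18, 1), (30, 1), (10, 1), (43, 1), (15, 1), (35, 1), (33, 1), (34, 1), (32, 1), (12, 1), (14, 1), (13, 1), (21, 1), (17, 1), (39, 1), (7, 1), (8, 1), (9, 1), (6, 1), (26, 1), (27, 1), (28, 1), (40, 1), (31, 1), (11, 1), (20, 1), (42, 1), (19, 1)],
    [(3, 4), (5, 13), (4, 18), (12, 4), (36, 13), (26, 18), (29, 8), (16, 9), (38, 13), (31, 22), (25, 17), (44, 21), (0, 1), (37, 13), (23, 17), (17, 11), (19, 6), (35, 12), (6, 1), (7, 1), (24, 17), (30, 5), (21, 7), (28, 18), (39, 23), (41, 24), (1, 1), (8, 1), (14, 4), (18, 14), (22, 17), (42, 16), (11, 2), (13, 4), (40, 10), (15, 15), (2, 1), (33, 12), (27, 18), (20, 20), (43, 19), (10, 3), (9, 1), (34, 12), (32, 12)],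
    [(32, 8), (18, 19), (14, 3), (25, 7), (29, 18), (13, 2), (7, 24), (9, 6), (6, 8), (8, 19), (31, 20), (42, 12), (12, 4), (3, 3), (0, 2), (22, 20), (41, 1), (11, 12), (36, 22), (44, 12), (30, 17), (10, 15), (24, 4), (21, 9), (20, 18), (2, 19), (43, 11), (16, 23), (27, 4), (26, 12), (35, 18), (33, 21), (5, 16), (17, 10), (40, 15), (34, 4), (39, 12), (38, 4), (19, 20), (4, 18), (15, 13), (37, 14), (23, 5), (1, 8), (28, 15)],
    [(0, 12), (12, 17), (3, 4), (1, 4), (5, 17), (26, 4), (41, 12), (21, 19), (39, 24), (28, 11), (17, 6), (6, 18), (2, 17), (9, 10), (43, 15), (7, 15), (29, 10), (32, 6), (11, 12), (15, 19), (37, 16), (19, 15), (10, 6), (20, 7), (14, 19), (30, 21), (36, 17), (40, 24), (42, 10), (16, 11), (44, 3), (38, 3), (22, 6), (24, 15), (23, 16), (25, 3), (4, 4), (34, 7), (31, 21), (27, 24), (8, 24), (18, 18), (13, 11), (33, 19), (35, 21)],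
    [(0, 1), (3, 18), (12, 17), (2, 18), (36, 18), (4, 17), (11, 4), (15, 14), (40, 3), (13, 16), (22, 2), (18, 1), (1, 17), (42, 8), (24, 22), (19, 22), (29, 8), (10, 2), (41, 4), (21, 14), (23, 5), (7, 22), (32, 2), (34, 10), (33, 14), (35, 24), (5, 18), (39, 3), (9, 8), (16, 16), (25, 9), (38, 9), (17, 2), (43, 22), (37, 5), (44, 9), (26, 17), (20, 10), (31, 24), (8, 3), (27, 3), (6, 1), (28, 16), (14, 14), (30, 24)],
    [(12, 1), (26, 1), (36, 1), (0, 4), (2, 13), (1, 18), (18, 1), (19, 1), (27, 1), (42, 1), (41, 2), (32, 3), (3, 4), (33, 4), (28, 4), (35, 5), (7, 6), (15, 7), (29, 8), (16, 9), (39, 10), (22, 11), (30, 12), (14, 12), (20, 12), (10, 12), (5, 13), (38, 13), (23, 13), (6, 14), (21, 15), (9, 16), (44, 17), (37, 17), (43, 17), (17, 17), (4, 18), (13, 18), (8, 18), (24, 19), (34, 20), (25, 21), (31, 22), (40, 23), (11, 24)],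
    [(12, 17), (5, 4), (2, 12), (4, 17), (26, 4), (0, 4), (13, 5), (40, 20), (15, 6), (11, 18), (34, 24), (43, 12), (1, 17), (17, 22), (35, 8), (37, 6), (9, 12), (38, 5), (14, 20), (20, 2), (32, 9), (28, 9), (27, 16), (18, 8), (19, 9), (42, 24), (36, 17), (30, 7), (21, 2), (8, 6), (33, 16), (7, 8), (24, 2), (22, 7), (25, 24), (23, 20), (3, 4), (29, 6), (6, 22), (41, 5), (44, 8), (39, 22), (10, 24), (16, 18), (31, 20)],
    [(12, 17), (1, 1), (4, 18), (5, 17), (0, 18), (36, 18), (39, 22), (28, 15), (41, 10), (21, 23), (38, 15), (13, 20), (2, 17), (11, 15), (16, 10), (40, 13), (8, 5), (24, 1), (43, 12), (37, 22), (29, 23), (20, 11), (34, 12), (32, 11), (35, 4), (33, 22), (3, 18), (44, 11), (10, 20), (9, 11), (31, 22), (6, 14), (27, 23), (19, 14), (18, 13), (42, 1), (26, 17), (25, 14), (7, 20), (30, 14), (15, 12), (14, 5), (17, 4), (22, 13), (23, 23)],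
    [(12, 1), (36, 17), (26, 12), (3, 1), (5, 17), (4, 12), (29, 22), (16, 21), (38, 17), (31, 8), (44, 13), (25, 9), (0, 1), (23, 17), (37, 13), (22, 19), (7, 24), (30, 18), (18, 4), (19, 4), (43, 13), (35, 20), (15, 23), (13, 12), (40, 7), (11, 6), (2, 17), (27, 4), (33, 1), (6, 16), (17, 13), (9, 14), (41, 3), (28, 1), (39, 15), (21, 10), (1, 12), (14, 18), (8, 12), (34, 5), (24, 11), (32, 2), (42, 4), (20, 18), (10, 18)],
    [(4, 4), (1, 12), (12, 17), (26, 4), (2, 4), (3, 17), (31, 15), (38, 23), (16, 7), (29, 8), (28, 23), (13, 14), (0, 17), (11, 23), (41, 7), (40, 1), (14, 16), (42, 18), (34, 13), (33, 15), (21, 8), (9, 20), (43, 13), (44, 20), (17, 12), (37, 15), (36, 17), (32, 20), (7, 14), (20, 20), (39, 15), (30, 19), (23, 8), (25, 19), (22, 1), (24, 18), (5, 4), (19, 19), (10, 14), (6, 19), (15, 13), (8, 16), (35, 12), (18, 1), (27, 8)],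
    [(5, 18), (12, 17), (2, 1), (36, 18), (3, 17), (1, 18), (38, 19), (31, 11), (29, 2), (16, 1), (42, 3), (9, 4), (0, 17), (6, 7), (18, 23), (8, 2), (43, 4), (13, 19), (23, 11), (24, 21), (19, 6), (28, 6), (33, 5), (35, 23), (32, 6), (34, 3), (4, 18), (22, 10), (21, 21), (37, 2), (27, 5), (44, 23), (20, 21), (30, 10), (10, 3), (14, 11), (26, 17), (15, 2), (17, 7), (41, 19), (7, 23), (39, 7), (25, 3), (11, 1), (40, 11)]]

def genC : List M3 :=
  [((1, 0, 0), (0, 1, 0), (0, 0, 1)),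
    ((4, 4, 0), (0, 0, 6), (4, 8, 0)),
    ((0, 4, 5), (0, 4, 7), (1, 0, 0)),
    ((2, 4, 3), (3, 5, 1), (5, 0, 8))]

def genCCert : List (List (ℕ × ℕ)) :=
  [[(0, 1), (1, 1), (2, 1), (3, 1), (4, 1), (5, 1), (6, 1), (7, 1), (8, 1), (9, 1), (10, 1), (11, 1), (12, 1), (13, 1), (14, 1), (15, 1), (16, 1), (17, 1), (18, 1), (19, 1), (20, 1)],
    [(8, 4), (11, 4), (14, 8), (0, 8), (9, 6), (12, 6), (17, 6), (20, 6), (6, 1), (3, 1), (13, 1), (16, 5), (19, 5), (5, 5), (1, 2), (18, 3), (15, 3), (4, 3), (2, 7), (7, 7), (10, 7)],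
    [(14, 6), (3, 8), (9, 3), (18, 5), (17, 3), (13, 8), (8, 2), (19, 4), (16, 4), (11, 1), (6, 8), (12, 3), (15, 5), (7, 7), (2, 7), (0, 1), (4, 5), (20, 3), (5, 4), (1, 6), (10, 7)],
    [(17, 7), (14, 1), (8, 1), (9, 2), (3, 6), (0, 4), (18, 8), (11, 2), (13, 5), (4, 6), (1, 3), (20, 3), (6, 1), (2, 4), (10, 6), (16, 3), (19, 6), (5, 2), (12, 7), (15, 1), (7, 3)]]

def outA : M3 := ((0, 2, 8), (0, 7, 2), (1, 0, 0))

def outB : M3 := ((0, 0, 4), (0, 1, 0), (1, 0, 0))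

def outC : M3 := ((0, 0, 2), (0, 1, 0), (1, 0, 0))

/-- every matrix is special unitary and respects the points -/
def allOk (p : ℕ) (S : List ℕ) (L : List M3) (C : List (List (ℕ × ℕ))) : Bool :=
  Nat.beq L.length C.length && (L.zip C).all fun x => isSU p 2 x.1 && presC p 2 S x.1 x.2

theorem genA_ok : allOk 5 ptsA genA genACert = true := by decide +kernel

theorem genT_ok : allOk 5 ptsA genT genTCert = true := by decide +kernel

theorem genRot_ok : allOk 5 ptsA genRot genRotCert = true := by decide +kernel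

theorem genB_ok : allOk 5 ptsB genB genBCert = true := by decide +kernel

theorem genC_ok : allOk 3 ptsC genC genCCert = true := by decide +kernel

theorem outA_ok : isSU 5 2 outA = true ∧ moves 5 2 ptsA outA 1024 = true := by decide +kernel

theorem outB_ok : isSU 5 2 outB = true ∧ moves 5 2 ptsB outB 4128 = true := by decide +kernel

theorem outC_ok : isSU 3 2 outC = true ∧ moves 3 2 ptsC outC 1056 = true := by decide +kernel

end CfsgLib.Perm.Asch.U3
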