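import Cfsg.Agent.Lib.Perm.Asch.Forms.U3.Frame
import Cfsg.Agent.Lib.Perm.Asch.Forms.UFieldTwo

/-!
# The normalisers of a field of degree three are not maximal in `SU_3(3)` and `SU_3(5)`
-/

set_option autoImplicit false
set_option linter.all false
set_option synthInstance.maxSize 20000

namespace CfsgLib.Perm.Asch.U3

open scoped Classical Matrix
open Matrix Cfsg.Geo CfsgLib.SU

/-- the element of order seven, the one normalising it, and one outside -/
def FieldData (p : ℕ) (t v g : M3) : Prop :=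
  pw3 p t 7 = one3 ∧ mm p 2 v t = mm p 2 (mm p 2 t t) v ∧
    det3 p 2 ((1, t.1.1, (mm p 2 t t).1.1), (0, t.2.1.1, (mm p 2 t t).2.1.1), (0, t.2.2.1, (mm p 2 t t).2.2.1)) ≠ 0 ∧
    ∀ j < 7, mm p 2 g t ≠ mm p 2 (pw3 p t j) g

def t5 : M3 := ((0, 5, 11), (5, 9, 6), (19, 24, 3))

def v5 : M3 := ((3, 2, 5), (3, 2, 20), (20, 20, 0))

def g5 : M3 := ((5, 6, 21), (19, 3, 6), (0, 11, 20))

def g3 : M3 := ((4, 4, 0), (0, 0, 6), (4, 8, 0))

def t3 : M3 := ((0, 4, 5), (0, 4, 7), (1, 0, 0))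

def v3 : M3 := ((2, 4, 3), (3, 5, 1), (5, 0, 8))

theorem data_five : FieldData 5 t5 v5 g5 := by unfold FieldData; decide +kernel

theorem data_three : FieldData 3 t3 v3 g3 := by unfold FieldData; decide +kernel

theorem mem_five : t5 ∈ genA ∧ v5 ∈ genA ∧ g5 ∈ genA := by simp [genA, t5, v5, g5]

theorem mem_three : t3 ∈ genC ∧ v3 ∈ genC ∧ g3 ∈ genC := by simp [genC, t3, v3, g3]

variable {F : Type*} [Field F] [Fintype F] {p : ℕ} {σ : F →+* F} {w : F}

abbrev Mat (F : Type*) := Matrix (Fin 3) (Fin 3) F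

/-- arithmetic in a field subalgebra of full degree -/
theorem field_facts {K : Subalgebra F (Mat F)} (hK : IsFieldSubalgebra 3 K) {q : ℕ} (hq : Fintype.card F = q) :
    (∀ r : ℕ, r.Prime → r ∣ q ^ 3 - 1 → ∃ t ∈ K, t ^ r = 1 ∧ t ≠ 1) ∧
      (∀ a b : ℕ, a * b = q ^ 3 - 1 → 0 < a → ∀ W ∈ K, W ^ a = 1 → ∃ y ∈ K, y ^ b = W) ∧
      (∀ T ∈ K, T ^ 7 = 1 → T ≠ 1 → ∀ X ∈ K, X ^ 7 = 1 → ∃ j < 7, X = T ^ j) ∧
      ∀ X ∈ K, X ^ (1 + q + q * q) = X.det • (1 : Mat F) := by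
  letI : CommRing K := { (inferInstance : Ring K) with mul_comm := fun x y => Subtype.ext (hK.comm _ x.2 _ y.2) }
  have hf : IsField K := ⟨⟨0, 1, fun h => zero_ne_one (congrArg Subtype.val h)⟩, mul_comm, fun {x} hx => by
    obtain ⟨y, hy, hxy⟩ := hK.inv _ x.2 (fun h => hx (Subtype.ext h))
    exact ⟨⟨y, hy⟩, Subtype.ext hxy⟩⟩
  letI : Field K := hf.toField
  have hcard : Nat.card K = q ^ 3 := by
    rw [Module.natCard_eq_pow_finrank (K := F), Nat.card_eq_fintype_card, hq, hK.finrank_eq]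
  haveI : Finite K := Nat.finite_of_card_ne_zero (by rw [hcard, ← hq]; positivity)
  letI : Fintype K := Fintype.ofFinite K
  have hu : Nat.card Kˣ = q ^ 3 - 1 := by rw [Nat.card_units, hcard]
  refine ⟨fun r hr hdvd => ?_, fun a b hab ha W hW hWa => ?_, fun T hT h7 h1 X hX hX7 => ?_, fun X hX => ?_⟩
  · haveI : Fact r.Prime := ⟨hr⟩
    obtain ⟨z, hz⟩ := exists_prime_orderOf_dvd_card' (G := Kˣ) r (hu ▸ hdvd)
    refine ⟨((z : K) : Mat F), (z : K).2, ?_, fun h => hr.ne_one ?_⟩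
    · rw [← SubmonoidClass.coe_pow, ← Units.val_pow_eq_pow_val, ← hz, pow_orderOf_eq_one]
      rfl
    · rw [← hz, orderOf_eq_one_iff]
      exact Units.ext (Subtype.ext h)
  · have hW0 : (⟨W, hW⟩ : K) ≠ 0 := fun h => by
      have h' : W = 0 := congrArg Subtype.val h
      rw [h', zero_pow ha.ne'] at hWa
      exact zero_ne_one hWa
    obtain ⟨g, hg⟩ := IsCyclic.exists_ofOrder_eq_natCard (α := Kˣ)
    obtain ⟨k, hk⟩ := mem_powers_iff_mem_zpowers.2 (show Units.mk0 _ hW0 ∈ Subgroup.zpowers g by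
      rw [Subgroup.eq_top_of_card_eq (Subgroup.zpowers g) (by rw [Nat.card_zpowers, hg])]
      exact Subgroup.mem_top _)
    simp only at hk
    have h1 : (g ^ k) ^ a = 1 := by
      rw [hk]
      exact Units.ext (Subtype.ext (by rw [Units.val_pow_eq_pow_val, SubmonoidClass.coe_pow]; exact hWa))
    rw [← pow_mul] at h1
    have h2 := orderOf_dvd_of_pow_eq_one h1
    rw [hg, hu, ← hab, mul_comm k] at h2
    obtain ⟨j, rfl⟩ := Nat.dvd_of_mul_dvd_mul_left ha h2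
    refine ⟨(((g ^ j : Kˣ) : K) : Mat F), ((g ^ j : Kˣ) : K).2, ?_⟩
    rw [← SubmonoidClass.coe_pow, ← Units.val_pow_eq_pow_val, ← pow_mul, mul_comm, hk]
    rfl
  · have hT' : IsPrimitiveRoot (⟨T, hT⟩ : K) 7 := by
      refine ⟨Subtype.ext (by rw [SubmonoidClass.coe_pow]; exact h7), fun l hl => ?_⟩
      have h := (pow_gcd_eq_one (a := (⟨T, hT⟩ : K)) (m := l) (n := 7)).2 ⟨hl, Subtype.ext (by rw [SubmonoidClass.coe_pow]; exact h7)⟩
      rcases (Nat.dvd_prime (by norm_num)).1 (Nat.gcd_dvd_right l 7) with e | e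
      · rw [e, pow_one] at h
        exact absurd (congrArg Subtype.val h) h1
      · exact e ▸ Nat.gcd_dvd_left l 7
    obtain ⟨j, hj, e⟩ := hT'.eq_pow_of_pow_eq_one (ξ := ⟨X, hX⟩)
      (Subtype.ext (by rw [SubmonoidClass.coe_pow]; exact hX7))
    exact ⟨j, hj, (congrArg Subtype.val e).symm.trans (SubmonoidClass.coe_pow ..)⟩
  · let v : Fin 3 → F := Pi.single 0 1
    let L : K →ₗ[F] (Fin 3 → F) :=
      { toFun := fun k => (k : Mat F) *ᵥ v
        map_add' := fun a b => Matrix.add_mulVec ..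
        map_smul' := fun c a => Matrix.smul_mulVec .. }
    have hinj : Function.Injective L := (injective_iff_map_eq_zero L).2 fun k hk => by
      by_contra h0
      obtain ⟨z, hz, hkz⟩ := hK.inv _ k.2 fun h => h0 (Subtype.ext h)
      refine (show v ≠ 0 from fun h => by simpa [v] using congrFun h 0) ?_
      rw [← one_mulVec v, ← hkz, hK.comm _ k.2 _ hz, ← mulVec_mulVec, show (k : Mat F) *ᵥ v = 0 from hk, mulVec_zero]
    let e : K ≃ₗ[F] (Fin 3 → F) := LinearEquiv.ofBijective L ⟨hinj,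
      (LinearMap.injective_iff_surjective_of_finrank_eq_finrank (by rw [hK.finrank_eq]; simp)).1 hinj⟩
    have hdet : Algebra.norm F (⟨X, hX⟩ : K) = X.det := by
      rw [Algebra.norm_apply, ← LinearMap.det_conj (Algebra.lmul F K ⟨X, hX⟩) e, ← LinearMap.det_toLin' X]
      congr 1
      refine LinearMap.ext fun x => ?_
      obtain ⟨k, rfl⟩ := e.surjective x
      simp only [LinearMap.coe_comp, LinearEquiv.coe_coe, Function.comp_apply, e.symm_apply_apply, Matrix.toLin'_apply]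
      show (X * (k : Mat F)) *ᵥ v = X *ᵥ ((k : Mat F) *ᵥ v)
      rw [mulVec_mulVec]
    have h := congrArg Subtype.val (FiniteField.algebraMap_norm_eq_pow_sum F K (⟨X, hX⟩ : K))
    rw [hdet, hK.finrank_eq, SubmonoidClass.coe_pow, Nat.card_eq_fintype_card, hq] at h
    rw [show 1 + q + q * q = ∑ i ∈ Finset.range 3, q ^ i by simp [Finset.sum_range_succ]; ring, ← h]
    exact Algebra.algebraMap_eq_smul_one X.det

/-- elements of order seven are conjugate up to powers -/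
theorem conj_seven (hF : Fintype.card F = p ^ 2) (hp : p = 3 ∨ p = 5) {a b : GL (Fin 3) F} (ha : orderOf a = 7)
    (hb : orderOf b = 7) : ∃ (u : GL (Fin 3) F) (i : ℕ), u * b * u⁻¹ = a ^ i := by
  haveI : Fact (Nat.Prime 7) := ⟨by norm_num⟩
  have hcard : ¬ 7 ^ 2 ∣ Nat.card (GL (Fin 3) F) := by
    rw [Matrix.card_GL_field, hF, Fin.prod_univ_three]
    rcases hp with rfl | rfl <;> norm_num
  have hsyl : ∀ c : GL (Fin 3) F, orderOf c = 7 →
      ∃ P : Sylow 7 (GL (Fin 3) F), (P : Subgroup (GL (Fin 3) F)) = Subgroup.zpowers c := by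
    intro c hc
    have hz : IsPGroup 7 (Subgroup.zpowers c) := IsPGroup.of_card (n := 1) (by rw [Nat.card_zpowers, hc, pow_one])
    obtain ⟨P, hP⟩ := hz.exists_le_sylow
    obtain ⟨k, hk⟩ := IsPGroup.iff_card.1 P.isPGroup'
    have hk1 : k ≤ 1 := by
      by_contra h
      exact hcard ((pow_dvd_pow 7 (by omega : 2 ≤ k)).trans (hk ▸ Subgroup.card_subgroup_dvd_card _))
    refine ⟨P, (Subgroup.eq_of_le_of_card_ge hP ?_).symm⟩
    rw [Nat.card_zpowers, hc, hk]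
    exact (Nat.pow_le_pow_right (by norm_num) hk1).trans (by norm_num)
  obtain ⟨A, hA⟩ := hsyl a ha
  obtain ⟨B, hB⟩ := hsyl b hb
  obtain ⟨u, hu⟩ := MulAction.exists_smul_eq (GL (Fin 3) F) B A
  have h : u * b * u⁻¹ ∈ (A : Subgroup (GL (Fin 3) F)) := by
    rw [← hu]
    exact ⟨b, hB ▸ Subgroup.mem_zpowers b, rfl⟩
  rw [hA] at h
  obtain ⟨i, hi⟩ := mem_powers_iff_mem_zpowers.2 h
  exact ⟨u, i, hi.symm⟩

/-- the adjoint on a field subalgebra of degree three -/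
theorem Ctx.field_adj (X : Ctx σ p w) {K : Subalgebra F (Mat F)} (hK : IsFieldSubalgebra 3 K)
    (ha : IsAdjointClosedFor (Cfsg.hermForm 3 F p) K) :
    (∀ k ∈ K, k ^ p ^ 6 = k) ∧ (∀ k ∈ K, kᵀ.map σ = k ^ p ^ 3) ∧
      ∀ g ∈ subalgebraNormalizer K, ∃ i, ∀ k ∈ K, cj g k = k ^ p ^ (2 * i) := by
  haveI : Fact p.Prime := ⟨X.M.prime⟩
  obtain ⟨q, e, hq, hcq, hqe, he, -⟩ := X.hu.exists_prime_pow
  obtain rfl : q = p := (Nat.prime_dvd_prime_iff_eq hq X.M.prime).1 (hqe ▸ dvd_pow_self q he.ne')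
  haveI := hcq
  have hcard := X.hu.card
  obtain ⟨hfix, hfrob⟩ := fieldSubalgebra_frob hK hcard
  have hr1 : Refl σ (1 : Mat F) := X.hu.refl_one
  have hadj : ∀ k : Mat F, adj σ (1 : Mat F) k = kᵀ.map σ := fun k => by simp [adj]
  have hmem : ∀ k ∈ K, adj σ (1 : Mat F) k ∈ K := fun k hk => by
    obtain ⟨k', hk', hs⟩ := ha k hk
    rw [X.hu.hermForm_eq] at hs
    rwa [hr1.adj_eq_of_forall hs]
  have hscalar : ∀ (i : ℕ) (y : F), (y • (1 : Mat F)) ^ q ^ i = y ^ q ^ i • (1 : Mat F) := fun i y => by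
    rw [smul_pow, one_pow]
  refine ⟨(hfix 6).2 dvd_rfl, fun k hk => ?_, fun g hg => ?_⟩
  · obtain ⟨i, hi⟩ := hfrob (adj σ 1) hmem hr1.adj_one (fun x _ y _ => hr1.adj_add x y) (fun x hx y hy => by
      rw [hr1.adj_mul]; exact hK.comm _ (hmem y hy) _ (hmem x hx))
    have h2i : 2 * 3 ∣ i + i := (hfix _).1 fun x hx => by
      rw [pow_add, pow_mul, ← hi x hx, ← hi _ (hmem x hx), hr1.adj_adj]
    have hodd : ¬ Even i := by
      rintro ⟨j, rfl⟩
      obtain ⟨y, hy⟩ := X.hu.exists_ne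
      have h := hi _ (sc_mem K y)
      rw [hr1.adj_smul, hr1.adj_one, hscalar] at h
      have h' := congrFun (congrFun h 0) 0
      simp only [Matrix.smul_apply, Matrix.one_apply_eq, smul_eq_mul, mul_one] at h'
      refine hy (h'.trans ?_)
      rw [← two_mul j, pow_mul, ← hcard]
      exact FiniteField.pow_card_pow j y
    rw [← hadj, hi k hk]
    obtain ⟨t, ht⟩ := Nat.not_even_iff_odd.1 hodd
    obtain ⟨v, hv⟩ : ∃ v, i = 3 + 6 * v := ⟨i / 6, by omega⟩
    rw [hv, pow_add, pow_mul]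
    exact (hfix _).2 (dvd_mul_right _ _) _ (K.pow_mem hk _)
  · obtain ⟨i, hi⟩ := hfrob (cj g) (fun x hx => (hg x).1 hx) (cj_one g) (fun x _ y _ => cj_add g x y)
      (fun x _ y _ => cj_mul g x y)
    rcases Nat.even_or_odd' i with ⟨j, rfl | rfl⟩
    · exact ⟨j, hi⟩
    exfalso
    obtain ⟨y, hy⟩ := X.hu.exists_ne
    have h := hi _ (sc_mem K y)
    rw [cj_smul, cj_one, hscalar] at h
    have h' := congrFun (congrFun h 0) 0
    simp only [Matrix.smul_apply, Matrix.one_apply_eq, smul_eq_mul, mul_one] at h'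
    refine hy ?_
    rw [X.bar]
    conv_rhs => rw [h']
    rw [show q ^ (2 * j + 1) = Fintype.card F ^ j * q by rw [hcard, pow_succ, pow_mul], pow_mul y,
      FiniteField.pow_card_pow]

/-- cube roots of unity in the field are scalars for five elements -/
theorem Ctx.cube_scalar (X : Ctx σ 5 w) {K : Subalgebra F (Mat F)} (hK : IsFieldSubalgebra 3 K) {x : Mat F}
    (hx : x ∈ K) (h : x ^ 3 = 1) : ∃ c : F, x = c • (1 : Mat F) := by
  have hs : emb 5 w 12 + emb 5 w 17 = -(1 : F) := by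
    rw [← X.M.emb_one, ← X.M.emb_gn, ← X.M.emb_ga]; exact congrArg _ (by decide)
  have hm : emb 5 w 12 * emb 5 w 17 = (1 : F) := by
    rw [← X.M.emb_gm, ← X.M.emb_one]; exact congrArg _ (by decide)
  have e : (x - 1) * ((x - emb 5 w 12 • 1) * (x - emb 5 w 17 • 1)) = 0 := by
    have e2 : (x - emb 5 w 12 • 1) * (x - emb 5 w 17 • 1) =
        x * x - (emb 5 w 12 + emb 5 w 17) • x + (emb 5 w 12 * emb 5 w 17) • (1 : Mat F) := by
      simp only [sub_mul, mul_sub, smul_mul_assoc, mul_smul_comm, one_mul, mul_one, smul_smul]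
      module
    rw [e2, hs, hm, neg_smul, one_smul, one_smul, sub_neg_eq_add,
      show (x - 1) * (x * x + x + 1) = x ^ 3 - 1 by noncomm_ring, h, sub_self]
  have hm' : ∀ c : F, x - c • 1 ∈ K := fun c => K.sub_mem hx (sc_mem K c)
  rcases field_mul_eq_zero hK (K.sub_mem hx K.one_mem) e with e1 | e1
  · exact ⟨1, by rw [one_smul]; exact sub_eq_zero.1 e1⟩
  · rcases field_mul_eq_zero hK (hm' (emb 5 w 12)) e1 with e2 | e2 <;> exact ⟨_, sub_eq_zero.1 e2⟩

/-- the normaliser of a field is not maximal -/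
theorem Ctx.field_not_maximal (X : Ctx σ p w) (hp : p = 3 ∨ p = 5) {S : List ℕ} {t v g : M3} (hd : FieldData p t v g)
    (htR : Rep p w S t) (hvR : Rep p w S v) (hgR : Rep p w S g) {B : M3} {s₀ : ℕ}
    (hB : isSU p 2 B = true ∧ moves p 2 S B s₀ = true)
    {H : Subgroup (GL (Fin 3) F)} (hH : IsMaximalIn (suGL 3 F p) H) {K : Subalgebra F (Mat F)}
    (hK : IsFieldSubalgebra 3 K) (hadjc : IsAdjointClosedFor (Cfsg.hermForm 3 F p) K)
    (hle : H ≤ subalgebraNormalizer K) : False := by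
  obtain ⟨hd7, hdv, hdB, hdg⟩ := hd
  obtain ⟨hord, hroot, hseven, hnorm⟩ := field_facts hK X.hu.card
  obtain ⟨hfix, hadj, hnor⟩ := X.field_adj hK hadjc
  obtain ⟨τ, ⟨hτS, hτU⟩, hτ⟩ := htR
  obtain ⟨ν, ⟨hνS, hνU⟩, hν⟩ := hvR
  have hp5 : p ≤ 5 ∧ 3 ≤ p := by omega
  have hpw : ∀ n, ((τ ^ n : GL (Fin 3) F) : Mat F) = emM p w (pw3 p t n) := fun n => by
    induction n with
    | zero => simp [pw3, X.M.emM_one]
    | succ n ih => rw [pow_succ', Units.val_mul, ih, hτ, pw3, X.M.emM_mm]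
  have hτ7 : τ ^ 7 = 1 := Units.ext (by rw [hpw, hd7, X.M.emM_one, Units.val_one])
  -- the first basis vector generates
  have hindep : ∀ c : Fin 3 → F, c 0 • (1 : Mat F) + c 1 • (τ : Mat F) + c 2 • ((τ : Mat F) * τ) = 0 → c = 0 := by
    intro c hc
    have hB0 : (emM p w ((1, t.1.1, (mm p 2 t t).1.1), (0, t.2.1.1, (mm p 2 t t).2.1.1),
        (0, t.2.2.1, (mm p 2 t t).2.2.1))).det ≠ 0 := by
      rw [X.M.emM_det]
      exact fun h => hdB (X.M.emb_eq_zero (code_lt X.M.prime.pos _ _) h)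
    refine Matrix.eq_zero_of_mulVec_eq_zero hB0 ?_
    funext i
    have h := congrFun (congrFun hc i) 0
    simp only [hτ, ← X.M.emM_mm, Matrix.add_apply, Matrix.smul_apply, smul_eq_mul, Matrix.zero_apply] at h
    rw [Pi.zero_apply, ← h]
    fin_cases i <;>
      simp [Matrix.mulVec, dotProduct, Fin.sum_univ_three, emM_apply, ent, ent3, X.M.emb_zero, X.M.emb_one, Matrix.one_apply] <;> ring
  have hτ1 : τ ≠ 1 := fun h => by
    have := congrFun (hindep ![1, -1, 0] (by simp [h])) 0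
    simp at this
  haveI : Fact (Nat.Prime 7) := ⟨by norm_num⟩
  have hdvd7 : 7 ∣ (p ^ 2) ^ 3 - 1 := by rcases hp with rfl | rfl <;> norm_num
  obtain ⟨t', ht'K, ht'7, ht'1⟩ := hord 7 (by norm_num) hdvd7
  let T' : GL (Fin 3) F := ⟨t', t' ^ 6, by rw [← pow_succ', ht'7], by rw [← pow_succ, ht'7]⟩
  have hT'7 : T' ^ 7 = 1 := Units.ext (by rw [Units.val_pow_eq_pow_val, Units.val_one]; exact ht'7)
  obtain ⟨u₀, i, hi⟩ := conj_seven X.hu.card hp (a := T') (b := τ)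
    (orderOf_eq_prime hT'7 fun h => ht'1 (congrArg Units.val h)) (orderOf_eq_prime hτ7 hτ1)
  set T : GL (Fin 3) F := T' ^ i with hT
  have hTK : (T : Mat F) ∈ K := by rw [hT, Units.val_pow_eq_pow_val]; exact K.pow_mem ht'K i
  have hT7 : T ^ 7 = 1 := by rw [hT, ← pow_mul, mul_comm, pow_mul, hT'7, one_pow]
  have hT1 : T ≠ 1 := fun h => hτ1 (by
    have : u₀⁻¹ * (u₀ * τ * u₀⁻¹) * u₀ = u₀⁻¹ * 1 * u₀ := by rw [hi, h]
    simpa [mul_assoc] using this)
  have hadjT : (T : Mat F)ᵀ.map σ = ((T⁻¹ : GL (Fin 3) F) : Mat F) := by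
    rw [hadj _ hTK, ← Units.val_pow_eq_pow_val, pow_eq_pow_mod (p ^ 3) hT7]
    congr 1
    refine eq_inv_of_mul_eq_one_left ?_
    rw [← pow_succ, show p ^ 3 % 7 + 1 = 7 by rcases hp with rfl | rfl <;> norm_num, hT7]
  have hcomm : ∀ x : Mat F, x * T = T * x → x ∈ K := by
    intro x hx
    let L : (Fin 3 → F) →ₗ[F] K :=
      { toFun := fun c => c 0 • (1 : K) + c 1 • (⟨T, hTK⟩ : K) + c 2 • ((⟨T, hTK⟩ : K) * ⟨T, hTK⟩)
        map_add' := fun a b => by simp only [Pi.add_apply, add_smul]; abel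
        map_smul' := fun a b => by simp only [Pi.smul_apply, smul_eq_mul, mul_smul, RingHom.id_apply, smul_add] }
    have hinj : Function.Injective L := (injective_iff_map_eq_zero L).2 fun c hc => hindep c (by
      have h : c 0 • (1 : Mat F) + c 1 • (T : Mat F) + c 2 • ((T : Mat F) * T) = 0 := congrArg Subtype.val hc
      have hτe : (τ : Mat F) = ((u₀⁻¹ : GL (Fin 3) F) : Mat F) * T * u₀ := by
        rw [← hi, ← Units.val_mul, ← Units.val_mul]; congr 1; group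
      have h2 := congrArg (fun A => ((u₀⁻¹ : GL (Fin 3) F) : Mat F) * A * u₀) h
      simp only [mul_add, add_mul, mul_smul_comm, smul_mul_assoc, mul_one, gl_inv_mul, mul_zero, zero_mul] at h2
      rw [hτe]
      convert h2 using 3
      simp only [mul_assoc]
      rw [← mul_assoc (u₀ : Mat F), gl_mul_inv, one_mul])
    have hsur : Function.Surjective L := (LinearMap.injective_iff_surjective_of_finrank_eq_finrank (by
      rw [hK.finrank_eq]; simp)).1 hinj
    refine mem_of_commute_field hK (by simp) fun k hk => ?_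
    obtain ⟨c, hc⟩ := hsur ⟨k, hk⟩
    rw [show k = c 0 • (1 : Mat F) + c 1 • (T : Mat F) + c 2 • ((T : Mat F) * T) from (congrArg Subtype.val hc).symm]
    simp only [mul_add, add_mul, mul_smul_comm, smul_mul_assoc, mul_one, one_mul, hx, ← mul_assoc]
    rw [mul_assoc (T : Mat F) x, hx]
    simp only [mul_assoc]
  -- make the conjugating element unitary
  set A : Mat F := (u₀ : Mat F)ᵀ.map σ with hA
  set W : Mat F := (u₀ : Mat F) * A with hW
  have hu0 : (T : Mat F) * u₀ = u₀ * τ := by rw [← hi, ← Units.val_mul, ← Units.val_mul, inv_mul_cancel_right]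
  have hAT : (τ : Mat F) * A = A * T := by
    have h := congrArg (fun Y : Mat F => Yᵀ.map σ) hu0
    simp only [Matrix.transpose_mul, Matrix.map_mul] at h
    rw [hadjT, ← hA] at h
    have hτi : (τ : Mat F)ᵀ.map σ * (τ : Mat F) = 1 := X.mem_GU_iff.1 hτU.1
    calc (τ : Mat F) * A = (τ : Mat F) * (A * ((T⁻¹ : GL (Fin 3) F) : Mat F)) * T := by
          rw [mul_assoc (τ : Mat F), mul_assoc A, gl_inv_mul, mul_one]
      _ = A * T := by rw [h, ← mul_assoc (τ : Mat F), mul_eq_one_comm.1 hτi, one_mul]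
  have hWK : W ∈ K := hcomm W (by rw [hW, mul_assoc, ← hAT, ← mul_assoc, ← hu0, mul_assoc])
  have hWW : Wᵀ.map σ = W := by
    rw [hW, Matrix.transpose_mul, Matrix.map_mul, hA]
    congr 1
    ext a b; simp [X.hu.inv]
  have hW0 : W ≠ 0 := fun h => by
    have hd0 : (u₀ : Mat F).det ≠ 0 := ((Matrix.isUnit_iff_isUnit_det _).1 u₀.isUnit).ne_zero
    have := congrArg Matrix.det h
    rw [hW, Matrix.det_mul, hA, ← RingHom.mapMatrix_apply, ← RingHom.map_det, Matrix.det_transpose,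
      Matrix.det_zero] at this
    exact mul_ne_zero hd0 ((map_ne_zero σ).2 hd0) this
  obtain ⟨Wi, hWiK, hWi⟩ := hK.inv W hWK hW0
  have hWp : W ^ (p ^ 3 - 1) = 1 := by
    have h : W ^ (p ^ 3 - 1) * W = W := by
      rw [← pow_succ, Nat.sub_add_cancel (Nat.one_le_pow _ _ X.M.prime.pos), ← hadj W hWK, hWW]
    calc W ^ (p ^ 3 - 1) = W ^ (p ^ 3 - 1) * W * Wi := by rw [mul_assoc, hWi, mul_one]
      _ = 1 := by rw [h, hWi]
  obtain ⟨y, hy, hyW⟩ := hroot (p ^ 3 - 1) (p ^ 3 + 1)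
    (by rw [mul_comm, ← Nat.sq_sub_sq, one_pow, ← pow_mul, ← pow_mul])
    (Nat.sub_pos_of_lt (Nat.one_lt_pow three_ne_zero X.M.prime.one_lt)) W hWK hWp
  have hy0 : y ≠ 0 := fun h => hW0 (by rw [← hyW, h, zero_pow (by omega)])
  obtain ⟨z, hz, hyz⟩ := hK.inv y hy hy0
  have hzy : z * y = 1 := by rw [hK.comm z hz y hy, hyz]
  let zU : GL (Fin 3) F := ⟨z, y, hzy, hyz⟩
  set u : GL (Fin 3) F := zU * u₀ with hu
  have huv : (u : Mat F) = z * u₀ := rfl
  have huU : u ∈ Cfsg.GU 3 F p := by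
    rw [X.mem_GU_iff]
    refine mul_eq_one_comm.1 ?_
    rw [huv, Matrix.transpose_mul, Matrix.map_mul, hadj z hz, ← mul_assoc, mul_assoc z, ← hA, ← hW,
      hK.comm z hz W hWK, mul_assoc, ← pow_succ', ← hyW]
    have h1 : (y * z) ^ (p ^ 3 + 1) = 1 := by rw [hyz, one_pow]
    rwa [(show Commute y z from hK.comm y hy z hz).mul_pow] at h1
  have hTu : u * τ * u⁻¹ = T := by
    have hzT : zU * T = T * zU := Units.ext (hK.comm z hz _ hTK)
    rw [hu, _root_.mul_inv_rev]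
    calc zU * u₀ * τ * (u₀⁻¹ * zU⁻¹) = zU * (u₀ * τ * u₀⁻¹) * zU⁻¹ := by group
      _ = T := by rw [hi, hzT, mul_inv_cancel_right]
  refine X.not_maximal hH huU (fun h hh => ?_) hgR (fun x hx hxs hmem => ?_) hB
  · -- the normaliser lies in the stabiliser
    set k := u⁻¹ * h * u with hk
    have hkU : k ∈ suGL 3 F p := by simpa [hk] using X.conj_mem ((Cfsg.GU 3 F p).inv_mem huU) (hH.1.le hh)
    obtain ⟨j, hj⟩ := hnor h (hle hh)
    have hhT : h * T * h⁻¹ = T ^ p ^ (2 * j) := Units.ext (by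
      have := hj _ hTK
      rw [cj, ← Units.val_mul, ← Units.val_mul, ← Units.val_pow_eq_pow_val] at this
      exact this)
    obtain ⟨m, -, hm⟩ : ∃ m < 3, p ^ (2 * j) % 7 = 2 ^ m % 7 := by
      rw [pow_mul, Nat.pow_mod]
      have key : ∀ n, ∃ m < 3, 2 ^ n % 7 = 2 ^ m % 7 := fun n => ⟨n % 3, Nat.mod_lt _ (by norm_num), by
        conv_lhs => rw [← Nat.div_add_mod n 3, pow_add, pow_mul, Nat.mul_mod, Nat.pow_mod]
        norm_num⟩
      rcases hp with rfl | rfl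
      · rw [show 3 ^ 2 % 7 = 2 by norm_num]; exact key j
      · rw [show 5 ^ 2 % 7 = 2 ^ 2 by norm_num, ← pow_mul]; exact key (2 * j)
    have hkτ : k * τ * k⁻¹ = τ ^ 2 ^ m := by
      have e : τ = u⁻¹ * T * u := by rw [← hTu]; group
      rw [hk, e]
      rw [show u⁻¹ * h * u * (u⁻¹ * T * u) * (u⁻¹ * h * u)⁻¹ = u⁻¹ * (h * T * h⁻¹) * u by group, hhT,
        pow_eq_pow_mod _ hT7, hm, ← pow_eq_pow_mod _ hT7,
        show (u⁻¹ * T * u) ^ 2 ^ m = (u⁻¹ * T * u⁻¹⁻¹) ^ 2 ^ m by rw [inv_inv], conj_pow, inv_inv]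
    have hντ : ν * τ * ν⁻¹ = τ ^ 2 := by
      rw [mul_inv_eq_iff_eq_mul]
      refine Units.ext ?_
      rw [sq, Units.val_mul, Units.val_mul, Units.val_mul, hν, hτ, ← X.M.emM_mm, ← X.M.emM_mm, ← X.M.emM_mm, hdv]
    have hνm : ∀ m : ℕ, ν ^ m * τ * (ν ^ m)⁻¹ = τ ^ 2 ^ m := fun m => by
      induction m with
      | zero => simp
      | succ m ih =>
        rw [pow_succ' ν, _root_.mul_inv_rev, show ν * ν ^ m * τ * ((ν ^ m)⁻¹ * ν⁻¹) = ν * (ν ^ m * τ * (ν ^ m)⁻¹) * ν⁻¹ by group,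
          ih, ← conj_pow, hντ, ← pow_mul, pow_succ' 2 m]
    set c := (ν ^ m)⁻¹ * k with hc
    have hcU : c ∈ suGL 3 F p := (suGL 3 F p).mul_mem ((suGL 3 F p).inv_mem ((suGL 3 F p).pow_mem hνU m)) hkU
    have hcτ : c * τ * c⁻¹ = τ := by
      rw [hc, show (ν ^ m)⁻¹ * k * τ * ((ν ^ m)⁻¹ * k)⁻¹ = (ν ^ m)⁻¹ * (k * τ * k⁻¹) * ν ^ m by group, hkτ, ← hνm m]
      group
    set x := u * c * u⁻¹ with hx
    have hxU : x ∈ suGL 3 F p := X.conj_mem huU hcU
    have hxT : x * T * x⁻¹ = T := by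
      rw [hx, ← hTu, show u * c * u⁻¹ * (u * τ * u⁻¹) * (u * c * u⁻¹)⁻¹ = u * (c * τ * c⁻¹) * u⁻¹ by group, hcτ]
    have hxK : (x : Mat F) ∈ K := hcomm _ (by
      rw [← Units.val_mul, ← Units.val_mul]
      exact congrArg Units.val (mul_inv_eq_iff_eq_mul.1 hxT))
    have hxd : (x : Mat F).det = 1 := by
      rw [← Matrix.GeneralLinearGroup.val_det_apply, MonoidHom.mem_ker.1 hxU.2, Units.val_one]
    have h1 : (x : Mat F) ^ (p ^ 3 + 1) = 1 := by
      rw [pow_succ, ← hadj _ hxK]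
      exact X.mem_GU_iff.1 hxU.1
    have h2 : (x : Mat F) ^ (1 + p ^ 2 + p ^ 2 * p ^ 2) = 1 := by rw [hnorm _ hxK, hxd, one_smul]
    have h3 := pow_gcd_eq_one.2 ⟨h1, h2⟩
    have hT1' : (T : Mat F) ≠ 1 := fun h => hT1 (Units.ext h)
    have hT7' : (T : Mat F) ^ 7 = 1 := by rw [← Units.val_pow_eq_pow_val, hT7, Units.val_one]
    obtain ⟨a, j, hxa⟩ : ∃ (a : F) (j : ℕ), (x : Mat F) = a • (T : Mat F) ^ j := by
      rcases hp with rfl | rfl
      · rw [show Nat.gcd (3 ^ 3 + 1) (1 + 3 ^ 2 + 3 ^ 2 * 3 ^ 2) = 7 by norm_num] at h3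
        obtain ⟨j, -, hj⟩ := hseven _ hTK hT7' hT1' _ hxK h3
        exact ⟨1, j, by rw [one_smul, hj]⟩
      · rw [show Nat.gcd (5 ^ 3 + 1) (1 + 5 ^ 2 + 5 ^ 2 * 5 ^ 2) = 21 by norm_num] at h3
        obtain ⟨a, ha⟩ := X.cube_scalar hK (K.pow_mem hxK 7) (by rw [← pow_mul]; exact h3)
        obtain ⟨j, -, hj⟩ := hseven _ hTK hT7' hT1' _ (K.pow_mem hxK 15)
          (by rw [← pow_mul, show 15 * 7 = 21 * 5 by norm_num, pow_mul, h3, one_pow])
        refine ⟨a, j, ?_⟩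
        rw [← hj]
        calc (x : Mat F) = (x : Mat F) ^ 21 * x := by rw [h3, one_mul]
          _ = x ^ 7 * x ^ 15 := by rw [← pow_succ, ← pow_add]
          _ = _ := by rw [ha, smul_mul_assoc, one_mul]
    have hcv : (c : Mat F) = a • ((τ ^ j : GL (Fin 3) F) : Mat F) := by
      have e : c = u⁻¹ * x * u := by rw [hx]; group
      rw [e, Units.val_mul, Units.val_mul, hxa, mul_smul_comm, smul_mul_assoc, ← Units.val_pow_eq_pow_val,
        ← Units.val_mul, ← Units.val_mul]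
      congr 2
      rw [← hTu, conj_pow]
      group
    have hkc : k = ν ^ m * c := by rw [hc]; group
    rw [hkc]
    exact (stabS p w S).mul_mem ((stabS p w S).pow_mem hνS m)
      (mem_of_smul ((stabS p w S).pow_mem hτS j) hcv)
  · obtain ⟨j, hj⟩ := hnor _ (hle hmem)
    have h := hj _ hTK
    have e : (u * x * u⁻¹) * T * (u * x * u⁻¹)⁻¹ = T ^ p ^ (2 * j) := Units.ext (by
      rw [cj, ← Units.val_mul, ← Units.val_mul, ← Units.val_pow_eq_pow_val] at h
      exact h)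
    have e' : x * τ = τ ^ (p ^ (2 * j) % 7) * x := by
      rw [← pow_eq_pow_mod _ hτ7, ← mul_inv_eq_iff_eq_mul]
      rw [← hTu, conj_pow, show u * x * u⁻¹ * (u * τ * u⁻¹) * (u * x * u⁻¹)⁻¹ = u * (x * τ * x⁻¹) * u⁻¹ by group] at e
      exact mul_left_cancel (mul_right_cancel e)
    have h2 := congrArg Units.val e'
    rw [Units.val_mul, Units.val_mul, hx, hpw, hτ, ← X.M.emM_mm, ← X.M.emM_mm] at h2
    refine hdg (p ^ (2 * j) % 7) (Nat.mod_lt _ (by norm_num)) ?_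
    have inj : ∀ a b, ent (mm p 2 g t) a b = ent (mm p 2 (pw3 p t (p ^ (2 * j) % 7)) g) a b := fun a b => by
      refine X.M.emb_inj ?_ ?_ (by rw [← emM_apply, ← emM_apply, h2]) <;>
        fin_cases a <;> fin_cases b <;> exact code_lt X.M.prime.pos _ _
    exact Prod.ext (Prod.ext (inj 0 0) (Prod.ext (inj 0 1) (inj 0 2)))
      (Prod.ext (Prod.ext (inj 1 0) (Prod.ext (inj 1 1) (inj 1 2)))
        (Prod.ext (inj 2 0) (Prod.ext (inj 2 1) (inj 2 2))))

/-- the field normaliser is not maximal -/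
theorem field_not_maximal (hF : Fintype.card F = p ^ 2) (hp : p = 3 ∨ p = 5) {H : Subgroup (GL (Fin 3) F)}
    (hH : IsMaximalIn (suGL 3 F p) H) {K : Subalgebra F (Mat F)}
    (hK : IsFieldSubalgebra 3 K) (ha : IsAdjointClosedFor (Cfsg.hermForm 3 F p) K)
    (hle : H ≤ subalgebraNormalizer K) : False := by
  obtain ⟨σ, w, X⟩ := exists_ctx hF hp
  rcases hp with rfl | rfl
  · exact X.field_not_maximal (Or.inl rfl) data_three (X.rep_of_gen genC_ok mem_three.1)
      (X.rep_of_gen genC_ok mem_three.2.1) (X.rep_of_gen genC_ok mem_three.2.2) outC_ok hH hK ha hle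
  · exact X.field_not_maximal (Or.inr rfl) data_five (X.rep_of_gen genA_ok mem_five.1)
      (X.rep_of_gen genA_ok mem_five.2.1) (X.rep_of_gen genA_ok mem_five.2.2) outA_ok hH hK ha hle

end CfsgLib.Perm.Asch.U3
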