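import Cfsg.Agent.Lib.Perm.Asch.Forms.U3.Common

/-!
# The monomial subgroup of `SU_3(5)` is not maximal
-/

set_option autoImplicit false
set_option linter.all false

namespace CfsgLib.Perm.Asch.U3

open scoped Classical Matrix
open Matrix Cfsg.Geo CfsgLib.SU

/-- codes of norm one -/
def unitsOne : List ℕ := (List.range 25).filter fun a => Nat.beq (gm 5 2 a (gb 5 a)) 1

/-- a diagonal code -/
def diag3 (x y z : ℕ) : M3 := ((x, 0, 0), (0, y, 0), (0, 0, z))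

/-- the two diagonal generators -/
def torus (i j : ℕ) : M3 := mm 5 2 (pw3 5 ((13, 0, 0), (0, 18, 0), (0, 0, 1)) i) (pw3 5 ((1, 0, 0), (0, 13, 0), (0, 0, 18)) j)

theorem torus_onto : ∀ x ∈ unitsOne, ∀ y ∈ unitsOne, ∀ z ∈ unitsOne, gm 5 2 (gm 5 2 x y) z = 1 →
    ∃ i < 6, ∃ j < 6, torus i j = diag3 x y z := by decide +kernel

theorem perm_onto : ∀ a b c : Fin 3, a ≠ b → a ≠ c → b ≠ c →
    ∃ A ∈ genA, ∀ i l : Fin 3, l ≠ ![a, b, c] i → ent (star3 5 A) i l = 0 := by decide +kernel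

theorem torus_gen : ((13, 0, 0), (0, 18, 0), (0, 0, 1)) ∈ genA ∧ ((1, 0, 0), (0, 13, 0), (0, 0, 18)) ∈ genA ∧
    ((5, 6, 21), (19, 3, 6), (0, 11, 20)) ∈ genA := by simp [genA]

variable {F : Type*} [Field F] [Fintype F] {σ : F →+* F} {w : F}

theorem Ctx.inv_val {p : ℕ} (X : Ctx σ p w) {g : GL (Fin 3) F} (hg : g ∈ Cfsg.GU 3 F p) {A : M3}
    (hA : (g : Matrix (Fin 3) (Fin 3) F) = emM p w A) :
    ((g⁻¹ : GL (Fin 3) F) : Matrix (Fin 3) (Fin 3) F) = emM p w (star3 p A) := by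
  have h := X.mem_GU_iff.1 hg
  rw [X.M.emM_star, ← hA]
  calc ((g⁻¹ : GL (Fin 3) F) : Matrix (Fin 3) (Fin 3) F)
      = (g : Matrix (Fin 3) (Fin 3) F)ᵀ.map σ * (g : Matrix (Fin 3) (Fin 3) F) *
          ((g⁻¹ : GL (Fin 3) F) : Matrix (Fin 3) (Fin 3) F) := by rw [h, one_mul]
    _ = _ := by rw [mul_assoc, gl_mul_inv, mul_one]

/-- the monomial elements lie in the stabiliser of the points -/
theorem Ctx.mono_mem (X : Ctx σ 5 w) {k : GL (Fin 3) F} (hk : k ∈ suGL 3 F 5) (π : Equiv.Perm (Fin 3))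
    (hπ : ∀ i j, j ≠ π i → (k : Matrix (Fin 3) (Fin 3) F) j i = 0) : k ∈ stabS 5 w ptsA := by
  obtain ⟨A, hA, hpat⟩ := perm_onto (π 0) (π 1) (π 2) (π.injective.ne (by decide)) (π.injective.ne (by decide))
    (π.injective.ne (by decide))
  have hpat' : ∀ i l : Fin 3, l ≠ π i → ent (star3 5 A) i l = 0 := fun i l h => hpat i l (by
    fin_cases i <;> simpa using h)
  obtain ⟨a, ⟨haS, haU⟩, ha'⟩ := X.rep_of_gen genA_ok hA
  have hai := X.inv_val haU.1 ha'
  set d := a⁻¹ * k with hd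
  have hdU : d ∈ suGL 3 F 5 := (suGL 3 F 5).mul_mem ((suGL 3 F 5).inv_mem haU) hk
  have hoff : ∀ i j, i ≠ j → (d : Matrix (Fin 3) (Fin 3) F) i j = 0 := fun i j hij => by
    rw [hd, Units.val_mul, Matrix.mul_apply]
    refine Finset.sum_eq_zero fun l _ => ?_
    rcases eq_or_ne l (π i) with rfl | h
    · rw [hπ j (π i) (π.injective.ne hij), mul_zero]
    · rw [hai, emM_apply, hpat' i l h, X.M.emb_zero, zero_mul]
  have hdiag : ∀ i, ∃ c ∈ unitsOne, (d : Matrix (Fin 3) (Fin 3) F) i i = emb 5 w c := fun i => by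
    obtain ⟨c, hc, hcd⟩ := X.M.emb_surj ((d : Matrix (Fin 3) (Fin 3) F) i i)
    refine ⟨c, List.mem_filter.2 ⟨List.mem_range.2 hc, ?_⟩, hcd.symm⟩
    have h := congrFun (congrFun (X.mem_GU_iff.1 hdU.1) i) i
    rw [Matrix.one_apply_eq, Matrix.mul_apply, Finset.sum_eq_single i (fun l _ hl => by
      rw [hoff l i hl, mul_zero]) (fun h => absurd (Finset.mem_univ i) h)] at h
    simp only [Matrix.map_apply, Matrix.transpose_apply, ← hcd, ← X.M.emb_gb, ← X.M.emb_gm] at h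
    rw [Nat.beq_eq]
    refine X.M.emb_inj (code_lt (by norm_num) _ _) (by norm_num) ?_
    rw [X.M.emb_one, ← h]
    simp only [X.M.emb_gm, mul_comm]
  obtain ⟨x, hx, hx'⟩ := hdiag 0
  obtain ⟨y, hy, hy'⟩ := hdiag 1
  obtain ⟨z, hz, hz'⟩ := hdiag 2
  have hdm : (d : Matrix (Fin 3) (Fin 3) F) = emM 5 w (diag3 x y z) := by
    ext i j
    rw [emM_apply]
    fin_cases i <;> fin_cases j <;> simp [diag3, ent, ent3, X.M.emb_zero, hx', hy', hz', hoff]
  have hdet : gm 5 2 (gm 5 2 x y) z = 1 := by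
    refine X.M.emb_inj (code_lt (by norm_num) _ _) (by norm_num) ?_
    have h1 := congrArg Units.val (MonoidHom.mem_ker.1 hdU.2)
    rw [Matrix.GeneralLinearGroup.val_det_apply, Units.val_one, Matrix.det_fin_three] at h1
    simp only [hx', hy', hz', hoff 0 1 (by decide), hoff 0 2 (by decide), hoff 1 0 (by decide), hoff 1 2 (by decide),
      hoff 2 0 (by decide), hoff 2 1 (by decide)] at h1
    rw [X.M.emb_gm, X.M.emb_gm, X.M.emb_one]
    linear_combination h1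
  obtain ⟨i, -, j, -, hij⟩ := torus_onto x hx y hy z hz hdet
  have hdS : d ∈ stabS 5 w ptsA := X.mem_of_rep (A := torus i j)
    (X.rep_mm (X.rep_pw (X.rep_of_gen genA_ok torus_gen.1) i) (X.rep_pw (X.rep_of_gen genA_ok torus_gen.2.1) j))
    (c := 1) (by rw [hdm, hij, one_smul])
  have := mul_mem haS hdS
  rwa [hd, mul_inv_cancel_left] at this

/-- an orthonormal frame -/
theorem Ctx.exists_frame {p : ℕ} (X : Ctx σ p w) {D : Fin 3 → Submodule F (Fin 3 → F)}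
    (hD : IsNondegenerateMDecomposition (Cfsg.hermForm 3 F p) 1 D) :
    ∃ u ∈ Cfsg.GU 3 F p, ∀ i, (u : Matrix (Fin 3) (Fin 3) F) *ᵥ Pi.single i 1 ∈ D i ∧
      ∀ x ∈ D i, ∃ a : F, x = a • ((u : Matrix (Fin 3) (Fin 3) F) *ᵥ Pi.single i 1) := by
  obtain ⟨C, hC⟩ := exists_uctx X.hu
  choose v hv hv0 hspan using fun i => (show ∃ v, v ∈ D i ∧ C.form v v = 1 ∧ ∀ x ∈ D i, ∃ a : F, x = a • v by
    obtain ⟨⟨v, hv⟩, hne, hspan⟩ := finrank_eq_one_iff'.1 (hD.decomp.finrank_eq i)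
    have hv0 : v ≠ 0 := fun h => hne (Subtype.ext h)
    have hvv : C.form v v ≠ 0 := fun h => by
      obtain ⟨⟨x, hx, hx'⟩, -⟩ := hD.nondegenerate i v hv hv0
      obtain ⟨a, ha⟩ := hspan ⟨x, hx⟩
      have ha' : a • v = x := congrArg Subtype.val ha
      rw [← ha', herm_form C, C.form_smul_left, h, mul_zero] at hx'
      exact hx' rfl
    obtain ⟨s, hs0, hs⟩ := X.hu.exists_norm hvv (by rw [← hC, C.form_self_fixed])
    refine ⟨s⁻¹ • v, (D i).smul_mem _ hv, ?_, fun x hx => ?_⟩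
    · have hσs : σ s ≠ 0 := (map_ne_zero σ).2 hs0
      rw [C.form_smul_left, C.form_smul_right, map_inv₀, ← hs, hC]
      field_simp
    · obtain ⟨a, ha⟩ := hspan ⟨x, hx⟩
      have ha' : a • v = x := congrArg Subtype.val ha
      exact ⟨a * s, by rw [smul_smul, mul_assoc, mul_inv_cancel₀ hs0, mul_one, ha']⟩)
  have horth : ∀ i j, C.form (v i) (v j) = if i = j then 1 else 0 := fun i j => by
    split
    · next h => subst h; exact hv0 i
    · next h => rw [← herm_form C]; exact hD.orthogonal i j h _ (hv i) _ (hv j)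
  set U : Matrix (Fin 3) (Fin 3) F := Matrix.of fun i j => v j i with hU
  have hUU : Uᵀ.map σ * U = 1 := by
    ext i j
    rw [Matrix.mul_apply, Matrix.one_apply]
    have h := horth j i
    simp only [UCtx.form, hC] at h
    simp only [hU, Matrix.map_apply, Matrix.transpose_apply, Matrix.of_apply]
    rw [show (if i = j then (1 : F) else 0) = if j = i then 1 else 0 by simp [eq_comm], ← h]
    exact Finset.sum_congr rfl fun l _ => mul_comm _ _
  have hdet : U.det ≠ 0 := fun h => by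
    have := congrArg Matrix.det hUU
    rw [Matrix.det_mul, h, mul_zero, Matrix.det_one] at this
    exact zero_ne_one this
  refine ⟨Matrix.GeneralLinearGroup.mkOfDetNeZero U hdet, X.mem_GU_iff.2 hUU, fun i => ?_⟩
  have e : U *ᵥ Pi.single i 1 = v i := by
    ext j
    simp [hU]
  exact ⟨show U *ᵥ _ ∈ D i from e.symm ▸ hv i, show ∀ x ∈ D i, ∃ a : F, x = a • (U *ᵥ _) from e.symm ▸ hspan i⟩

theorem Ctx.frame_mono {p : ℕ} (X : Ctx σ p w) {D : Fin 3 → Submodule F (Fin 3 → F)} {u g : GL (Fin 3) F}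
    (hu : ∀ i, (u : Matrix (Fin 3) (Fin 3) F) *ᵥ Pi.single i 1 ∈ D i ∧
      ∀ x ∈ D i, ∃ a : F, x = a • ((u : Matrix (Fin 3) (Fin 3) F) *ᵥ Pi.single i 1))
    (hg : g ∈ decompositionStabilizer D) :
    ∃ π : Equiv.Perm (Fin 3), ∀ i j, j ≠ π i → ((u⁻¹ * g * u : GL (Fin 3) F) : Matrix (Fin 3) (Fin 3) F) j i = 0 := by
  obtain ⟨π, hπ⟩ := hg
  refine ⟨π, fun i j hj => ?_⟩
  obtain ⟨a, ha⟩ := (hu (π i)).2 ((g : Matrix (Fin 3) (Fin 3) F) *ᵥ ((u : Matrix (Fin 3) (Fin 3) F) *ᵥ Pi.single i 1)) (by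
    rw [← hπ i]
    exact ⟨_, (hu i).1, Matrix.toLin'_apply _ _⟩)
  have h : ((u⁻¹ * g * u : GL (Fin 3) F) : Matrix (Fin 3) (Fin 3) F) *ᵥ Pi.single i 1 = a • Pi.single (π i) 1 := by
    rw [Units.val_mul, Units.val_mul, ← mulVec_mulVec, ← mulVec_mulVec, ha, mulVec_smul, mulVec_mulVec, gl_inv_mul,
      one_mulVec]
  have := congrFun h j
  simpa [Pi.single_apply, hj] using this

/-- the monomial group is not maximal -/
theorem frame_not_maximal (hF : Fintype.card F = 5 ^ 2) {H : Subgroup (GL (Fin 3) F)}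
    (hH : IsMaximalIn (suGL 3 F 5) H) {D : Fin 3 → Submodule F (Fin 3 → F)}
    (hD : IsNondegenerateMDecomposition (Cfsg.hermForm 3 F 5) 1 D)
    (hHD : H = decompositionStabilizer D ⊓ suGL 3 F 5) : False := by
  obtain ⟨σ, w, X⟩ := exists_ctx hF (Or.inr rfl)
  obtain ⟨u, huU, hu⟩ := X.exists_frame hD
  refine X.not_maximal hH huU (fun h hh => ?_) (X.rep_of_gen genA_ok torus_gen.2.2) (fun x hx hxs hmem => ?_) outA_ok
  · rw [hHD, Subgroup.mem_inf] at hh
    obtain ⟨π, hπ⟩ := X.frame_mono hu hh.1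
    refine X.mono_mem ?_ π hπ
    simpa using X.conj_mem ((Cfsg.GU 3 F 5).inv_mem huU) hh.2
  · rw [hHD, Subgroup.mem_inf] at hmem
    obtain ⟨π, hπ⟩ := X.frame_mono hu hmem.1
    simp only [show u⁻¹ * (u * x * u⁻¹) * u = x by group, hx, emM_apply] at hπ
    have hne : ∀ a < 25, a ≠ 0 → emb 5 w a ≠ (0 : F) := fun a ha h0 h => h0 (X.M.emb_eq_zero ha h)
    rcases eq_or_ne (π 0) 0 with h | h
    · exact hne 19 (by norm_num) (by norm_num) (hπ 0 1 (by rw [h]; decide))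
    · exact hne 5 (by norm_num) (by norm_num) (hπ 0 0 h.symm)

end CfsgLib.Perm.Asch.U3
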