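import Cfsg.Agent.Lib.Perm.Asch.Forms.UCases
import Cfsg.Agent.Lib.Perm.Asch.Forms.U4Normalizer

/-!
# The candidates for maximal subgroups of `SU_3(q)`
-/

set_option autoImplicit false
set_option linter.all false

namespace CfsgLib.Perm.Asch.U3

open scoped Classical Matrix
open Matrix Cfsg.Geo CfsgLib.SU

variable {F : Type*} [Field F] [Fintype F] {q : ℕ}

/-- a second element of trace zero -/
theorem exists_trace_zero_two (C : UCtx F q) (hF : Fintype.card F = q ^ 2) (hq : 4 ≤ q) {δ : F} (hδ0 : δ ≠ 0)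
    (hδ : δ + C.bar δ = 0) : ∃ δ' : F, δ' ≠ 0 ∧ δ' + C.bar δ' = 0 ∧ δ' * δ' ≠ δ * δ := by
  obtain ⟨σ, hu⟩ := exists_uconj hF
  have hb : ∀ x, C.bar x = x ^ q := C.bar_eq
  -- a fixed element whose square is not one
  obtain ⟨a, ha0, haq, ha⟩ : ∃ a : F, a ≠ 0 ∧ a ^ q = a ∧ a * a ≠ 1 := by
    obtain ⟨p, e, hp, hcp, he, he0, hc⟩ := hu.exists_prime_pow
    haveI := hcp
    haveI : Fact p.Prime := ⟨hp⟩
    by_contra hcon
    push Not at hcon
    have hs : ∀ x : F, x ^ q = x → x ∈ ({0, 1, -1} : Finset F) := fun x hx => by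
      rcases eq_or_ne x 0 with rfl | h0
      · simp
      · rcases mul_self_eq_one_iff.1 (hcon x h0 hx) with rfl | rfl <;> simp
    obtain ⟨g, hg⟩ := IsCyclic.exists_ofOrder_eq_natCard (α := Fˣ)
    rw [Nat.card_units, Nat.card_eq_fintype_card, hF] at hg
    -- the power of a generator of order `q - 1`
    have hord : orderOf (g ^ (q + 1)) = q - 1 := by
      rw [orderOf_pow' g (by omega), hg, show q ^ 2 - 1 = (q + 1) * (q - 1) from Nat.sq_sub_sq q 1,
        Nat.gcd_mul_right_left, Nat.mul_div_cancel_left _ (by omega)]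
    set z : Fˣ := g ^ (q + 1) with hz
    have hzq : (z : F) ^ q = z := by
      have h1 : z ^ (q - 1) = 1 := hord ▸ pow_orderOf_eq_one z
      conv_lhs => rw [show q = q - 1 + 1 by omega, pow_succ, ← Units.val_pow_eq_pow_val, h1, Units.val_one, one_mul]
    have h1 : (z : F) * z = 1 := by
      have := hcon z z.ne_zero hzq
      exact this
    have h2 : z ^ 2 = 1 := Units.ext (by rw [Units.val_pow_eq_pow_val, sq, h1, Units.val_one])
    have := Nat.le_of_dvd (by norm_num) (hord ▸ orderOf_dvd_of_pow_eq_one h2)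
    omega
  refine ⟨a * δ, mul_ne_zero ha0 hδ0, ?_, fun h => ha ?_⟩
  · rw [map_mul, hb a, haq, ← mul_add, hδ, mul_zero]
  · exact mul_right_cancel₀ (mul_ne_zero hδ0 hδ0) (by linear_combination h)

/-- the special unitary group in dimension three normalises no `r`-group with scalar centraliser -/
theorem su3_not_le_normalizer (C : UCtx F q) (hF : Fintype.card F = q ^ 2) (hq : 4 ≤ q) (h3 : (3 : F) ≠ 0) {r : ℕ}
    (hr : r.Prime) {R : Subgroup (GL (Fin 3) F)} (hR : IsPGroup r R) (hI : R ≤ Cfsg.GU 3 F q)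
    (ha : ActsAbsolutelyIrreducibly (matrixSet R)) : ¬ suGL 3 F q ≤ subgroupNormalizer R := by
  intro hle
  haveI : Fact r.Prime := ⟨hr⟩
  obtain ⟨δ₀, hδ₀, hδ₀'⟩ := C.exists_trace_zero
  set Z := scalars (Fin 3) F
  haveI : (Z.subgroupOf R).Normal := Subgroup.Normal.subgroupOf scalars_normal R
  have hne : Nontrivial (R ⧸ Z.subgroupOf R) := by
    by_contra hn'
    rw [not_nontrivial_iff_subsingleton] at hn'
    obtain ⟨c, hc⟩ := ha.2 (Matrix.single (0 : Fin 3) 1 (1 : F)) (by
      rintro _ ⟨y, hy, rfl⟩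
      obtain ⟨d, hd⟩ := mem_scalars.1 (Subgroup.mem_subgroupOf.1
        ((QuotientGroup.eq_one_iff _).1 (Subsingleton.elim ((⟨y, hy⟩ : R) : R ⧸ Z.subgroupOf R) 1)))
      have hd' : (y : Matrix (Fin 3) (Fin 3) F) = (d : F) • 1 := hd
      show _ * (y : Matrix (Fin 3) (Fin 3) F) = (y : Matrix (Fin 3) (Fin 3) F) * _
      rw [hd', mul_smul_comm, smul_mul_assoc, mul_one, one_mul])
    have := congrFun (congrFun hc 0) 1
    simp at this
  obtain ⟨x, hxR, hxT, hxZ⟩ : ∃ x ∈ R, (∀ y ∈ R, x * y * x⁻¹ * y⁻¹ ∈ Z) ∧ x ∉ Z := by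
    haveI : Nontrivial (Subgroup.center (R ⧸ Z.subgroupOf R)) := (hR.to_quotient _).center_nontrivial
    obtain ⟨⟨c, hc⟩, hc1⟩ := exists_ne (1 : Subgroup.center (R ⧸ Z.subgroupOf R))
    induction c using QuotientGroup.induction_on with
    | _ x =>
      refine ⟨x, x.2, fun y hy => ?_, fun h => hc1 (Subtype.ext ?_)⟩
      · have h1 := Subgroup.mem_center_iff.1 hc ((⟨y, hy⟩ : R) : R ⧸ Z.subgroupOf R)
        rw [← QuotientGroup.mk_mul, ← QuotientGroup.mk_mul, QuotientGroup.eq, Subgroup.mem_subgroupOf] at h1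
        have h2 := scalars_normal.conj_mem _ h1 (y * (x : GL (Fin 3) F))
        convert h2 using 1
        simp only [Subgroup.coe_mul, InvMemClass.coe_inv]
        group
      · show ((x : R) : R ⧸ Z.subgroupOf R) = 1
        rw [QuotientGroup.eq_one_iff, Subgroup.mem_subgroupOf]
        exact h
  refine hxZ ?_
  obtain ⟨c, hc⟩ := scalar_of_iso_eigen C (by norm_num) (k := (x : Matrix (Fin 3) (Fin 3) F)) fun u hu0 hu => by
    set v := (x : Matrix (Fin 3) (Fin 3) F) *ᵥ u with hv
    have key : ∀ δ : F, δ ≠ 0 → δ + C.bar δ = 0 →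
        (∃ c : F, (x : Matrix (Fin 3) (Fin 3) F) *ᵥ u = c • u) ∨
          δ * δ * (C.form v u * C.form u v) = 3 := by
      intro δ hδ0 hδ
      obtain ⟨g, hg, hgm, hgx, hgi⟩ := exists_utv C u hu δ hδ
      set z := g * x * g⁻¹ * x⁻¹ with hz
      have hgR : g * x * g⁻¹ ∈ R := (hle hg x).1 hxR
      have hzR : z ∈ R := R.mul_mem hgR (R.inv_mem hxR)
      have hzT : ∀ y ∈ R, z * y * z⁻¹ * y⁻¹ ∈ Z := by
        intro y hy
        have hy' : g⁻¹ * y * g ∈ R := by simpa using (hle ((suGL 3 F q).inv_mem hg) y).1 hy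
        have h1 : g * x * g⁻¹ * y * (g * x * g⁻¹)⁻¹ * y⁻¹ ∈ Z := by
          have := scalars_normal.conj_mem _ (hxT _ hy') g
          convert this using 1
          group
        have h2 : x⁻¹ * y * x * y⁻¹ ∈ Z := by
          have := scalars_normal.conj_mem _ (Z.inv_mem (hxT y hy)) x⁻¹
          convert this using 1
          group
        have h3 := Z.mul_mem (scalars_normal.conj_mem _ h2 (g * x * g⁻¹)) h1
        convert h3 using 1
        rw [hz]; group
      have hxf : ∀ a b : Fin 3 → F, C.form ((x : Matrix (Fin 3) (Fin 3) F) *ᵥ a)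
          ((x : Matrix (Fin 3) (Fin 3) F) *ᵥ b) = C.form a b := fun a b => by
        rw [← herm_form C, ← herm_form C]
        exact hI hxR a b
      have hvv : C.form v v = 0 := by rw [hv, hxf, hu]
      have hxinv : ∀ w : Fin 3 → F,
          C.form (((x⁻¹ : GL (Fin 3) F) : Matrix (Fin 3) (Fin 3) F) *ᵥ w) u = C.form w v := fun w => by
        rw [← hxf, mulVec_mulVec, gl_mul_inv, one_mulVec]
      have hzmat : (z : Matrix (Fin 3) (Fin 3) F) = C.rmap u u δ * C.rmap v v (-δ) := by
        refine Matrix.ext_iff_mulVec.2 fun w => ?_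
        rw [hz, Units.val_mul, Units.val_mul, Units.val_mul, ← mulVec_mulVec, ← mulVec_mulVec, ← mulVec_mulVec,
          hgi, mulVec_add, mulVec_smul, mulVec_mulVec, gl_mul_inv, one_mulVec, hgx, hxinv, ← hv,
          ← mulVec_mulVec, C.rmap_mulVec, C.rmap_mulVec]
      by_cases hall : ∀ y ∈ R, z * y = y * z
      · left
        obtain ⟨c, hc⟩ := ha.2 (z : Matrix (Fin 3) (Fin 3) F) (by
          rintro _ ⟨y, hy, rfl⟩
          show (z : Matrix (Fin 3) (Fin 3) F) * (y : Matrix (Fin 3) (Fin 3) F) = y * z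
          exact ((Units.val_mul z y).symm.trans (congrArg Units.val (hall y hy))).trans (Units.val_mul y z))
        have hc1 : c = 1 := by
          obtain ⟨w, hw0, hwu, hwv⟩ := C.exists_orth_two (le_refl 3) u v
          have h1 : (z : Matrix (Fin 3) (Fin 3) F) *ᵥ w = w := by
            rw [hzmat, ← mulVec_mulVec, C.rmap_mulVec v v, hwv, mul_zero, zero_smul, add_zero, C.rmap_mulVec, hwu,
              mul_zero, zero_smul, add_zero]
          rw [hc, smul_mulVec, one_mulVec] at h1
          exact smul_left_injective F hw0 (h1.trans (one_smul F w).symm)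
        have hz1 : z = 1 := Units.ext (by rw [hc, hc1, one_smul, Units.val_one])
        refine eigen_of_commute C hu0 hδ0 hgx ?_
        have : g * x = x * g := by
          have h1 : g * x = z * (x * g) := by rw [hz]; group
          rw [h1, hz1, one_mul]
        rw [← Units.val_mul, this, Units.val_mul]
      right
      push Not at hall
      obtain ⟨y, hy, hyne⟩ := hall
      obtain ⟨d, hd⟩ := mem_scalars.1 (hzT y hy)
      have hzy : ((y⁻¹ : GL (Fin 3) F) : Matrix (Fin 3) (Fin 3) F) * z * y = (d : F) • (z : Matrix (Fin 3) (Fin 3) F) := by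
        have : y⁻¹ * z * y = y⁻¹ * (z * y * z⁻¹ * y⁻¹) * y * z := by group
        rw [← Units.val_mul, ← Units.val_mul, this, Units.val_mul, Units.val_mul, Units.val_mul, hd,
          mul_smul_comm, mul_one, smul_mul_assoc, gl_inv_mul, smul_mul_assoc, one_mul]
      have hd1 : (d : F) ≠ 1 := by
        intro h
        apply hyne
        rw [h, one_smul] at hzy
        have h' : y⁻¹ * z * y = z := Units.ext (by rw [Units.val_mul, Units.val_mul, hzy])
        calc z * y = y * (y⁻¹ * z * y) := by group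
          _ = y * z := by rw [h']
      have htr : (z : Matrix (Fin 3) (Fin 3) F).trace = 0 := by
        have h := congrArg Matrix.trace hzy
        rw [Matrix.trace_mul_cycle, gl_mul_inv, one_mul, Matrix.trace_smul, smul_eq_mul] at h
        by_contra h0
        exact hd1 (mul_right_cancel₀ h0 (by rw [one_mul]; exact h.symm))
      rw [hzmat, U4.trace_two_transvections, hu, hvv] at htr
      push_cast at htr
      linear_combination -htr
    obtain ⟨δ', hδ'0, hδ', hne'⟩ := exists_trace_zero_two C hF hq hδ₀ hδ₀'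
    rcases key δ₀ hδ₀ hδ₀' with h | h
    · exact h
    rcases key δ' hδ'0 hδ' with h' | h'
    · exact h'
    exfalso
    have hP : C.form v u * C.form u v ≠ 0 := fun h0 => h3 (by rw [← h, h0, mul_zero])
    exact hne' (mul_right_cancel₀ hP (h'.trans h.symm))
  exact mem_scalars_of_eq hc

/-- the candidates -/
inductive Max (F : Type*) [Field F] [Fintype F] (q : ℕ) (H : Subgroup (GL (Fin 3) F)) : Prop where
  | singular {W : Submodule F (Fin 3 → F)} (h0 : W ≠ ⊥) (hs : IsTotallySingularFor (Cfsg.hermForm 3 F q) W)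
      (h : H = subspaceStabilizer W ⊓ suGL 3 F q) : Max F q H
  | nondeg {W : Submodule F (Fin 3 → F)} (h0 : W ≠ ⊥) (hn : IsNondegenerateOn (Cfsg.hermForm 3 F q) W)
      (hd : 2 * Module.finrank F W < 3) (h : H = subspaceStabilizer W ⊓ suGL 3 F q) : Max F q H
  | dec {D : Fin 3 → Submodule F (Fin 3 → F)} (hD : IsNondegenerateMDecomposition (Cfsg.hermForm 3 F q) 1 D)
      (h : H = decompositionStabilizer D ⊓ suGL 3 F q) : Max F q H
  | field {K : Subalgebra F (Matrix (Fin 3) (Fin 3) F)}
      (hK : IsFieldSubalgebra 3 K) (ha : IsAdjointClosedFor (Cfsg.hermForm 3 F q) K)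
      (h : H = subalgebraNormalizer K ⊓ suGL 3 F q) : Max F q H
  | subOdd (h : ∃ (F₀ : Subfield F) (r : ℕ) (P : GL (Fin 3) F), r.Prime ∧ Odd r ∧
      Fintype.card F = Nat.card F₀ ^ r ∧ IsFormRationalStructure (Cfsg.hermForm 3 F q) F₀ 1 P ∧
      H = subfieldSubgroup F₀ P ⊓ suGL 3 F q) : Max F q H
  | subOrth {F₀ : Subfield F} {P : GL (Fin 3) F} (hq : Odd q) (hc : Fintype.card F = Nat.card F₀ ^ 2)
      (hs : IsFormRationalStructure (Cfsg.hermForm 3 F q) F₀ 1 P)
      (h : H = subfieldSubgroup F₀ P ⊓ suGL 3 F q) : Max F q H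
  | sym {p : ℕ} {R : Subgroup (GL (Fin 3) F)} (hp : p.Prime) (hqp : q = p) (hp3 : p % 3 = 2)
      (hR : IsSymplecticTypeGroup 3 R) (ha : ActsAbsolutelyIrreducibly (matrixSet R))
      (hs : R ≤ similarityGroup (Cfsg.hermForm 3 F q)) (hI : R ≤ Cfsg.GU 3 F q) (hc : Nat.card R = 27)
      (hz : Nat.card (Subgroup.center R) = 3) (h : H = subgroupNormalizer R ⊓ suGL 3 F q) : Max F q H
  | residual (h : InUnitaryResidualClass H) : Max F q H

/-- the maximal subgroups of `SU_3(q)` -/
theorem su_max (hF : Fintype.card F = q ^ 2) (hq : 3 ≤ q) {H : Subgroup (GL (Fin 3) F)}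
    (hH : IsMaximalIn (suGL 3 F q) H) : Max F q H := by
  obtain ⟨σ, hu⟩ := exists_uconj hF
  obtain ⟨C, -⟩ := exists_uctx hu
  have hI : H ≤ Cfsg.GU 3 F q := fun g hg => (hH.1.le hg).1
  rcases unitary_structure hu (by omega) hI with hc | hres
  swap
  · exact .residual hres
  cases hc with
  | @singular W h0 hs h =>
    refine .singular h0 hs (su_eq_inf hH h (su_not_le_subspace C (by omega) h0 fun htop => ?_))
    subst htop
    obtain ⟨e, he0, -⟩ := C.exists_isotropic (n := 3) (by omega)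
    obtain ⟨y, hy⟩ := C.exists_form_eq_one he0
    have h1 := hs y trivial e trivial
    rw [herm_form C, hy] at h1
    exact one_ne_zero h1
  | @nondeg W h0 hn' hd h =>
    refine .nondeg h0 hn' hd (su_eq_inf hH h (su_not_le_subspace C (by omega) h0 fun htop => ?_))
    subst htop
    rw [finrank_top, Module.finrank_fin_fun] at hd
    omega
  | @dec t k D hD h =>
    have h3 := decomposition_card hD.decomp
    rw [Fintype.card_fin] at h3
    have ht := hD.decomp.two_le
    have hk := hD.decomp.pos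
    obtain rfl : k = 1 := by nlinarith
    obtain rfl : t = 3 := by omega
    exact .dec hD (su_eq_inf hH h (su_not_le_frame C hF le_rfl (Or.inl (by omega)) hD))
  | @pair k D hk hD hs h => omega
  | @subOdd F₀ r P hr hro hc hs h =>
    exact .subOdd ⟨F₀, r, P, hr, hro, hc, hs,
      su_eq_inf hH h (su_not_le_subfield C (by omega) (ne_top_of_card hr.one_lt hc) P)⟩
  | @subOrth F₀ P hq' hc hs h =>
    exact .subOrth hq' hc hs (su_eq_inf hH h (su_not_le_subfield C (by omega) (ne_top_of_card one_lt_two hc) P))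
  | @subSymp F₀ P ζ hev hc hζ hζq hs halt h => exact absurd hev (by decide)
  | @sym r R p e k hR ha hs hrp hm hIR hk hcases h =>
    obtain rfl : r = 3 := (Nat.prime_dvd_prime_iff_eq hR.prime Nat.prime_three).1
      (hk ▸ dvd_pow_self r (by rintro rfl; simp at hk))
    obtain rfl : k = 1 := Nat.pow_right_injective (le_refl 2 |>.trans (by norm_num)) (hk.symm.trans (pow_one 3).symm)
    rcases hcases with ⟨-, hz, -, hcard⟩ | ⟨h2, -⟩
    swap
    · omega
    rw [hz] at hm
    obtain ⟨f, hf, hp, hcp, hqp, hdvd, h1, h2⟩ := sym_cond_odd hF hR.prime hrp hm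
    obtain rfl : f = 1 := by
      have := Nat.le_of_dvd two_pos hdvd
      omega
    rw [pow_one] at hqp
    subst hqp
    have hp3 : q % 3 = 2 := by
      have h3' : q % 3 ≠ 0 := fun h0 => hrp
        ((Nat.prime_dvd_prime_iff_eq Nat.prime_three hp).1 (Nat.dvd_of_mod_eq_zero h0))
      have h1' : q % 3 ≠ 1 := fun h0 => by
        have := h2 1 (by rw [h0]; simp)
        omega
      omega
    haveI := hcp
    have h3 : (3 : F) ≠ 0 := fun h0 => hrp ((Nat.prime_dvd_prime_iff_eq hp Nat.prime_three).1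
      ((CharP.cast_eq_zero_iff F q 3).1 (by exact_mod_cast h0))).symm
    exact .sym hp rfl hp3 hR ha hs hIR (by simpa using hcard) hz
      (su_eq_inf hH h (su3_not_le_normalizer C hF (by omega) h3 hR.prime hR.pGroup hIR ha))
  | @field r K hr hro hK ha h =>
    have := finrank_dvd_card hK
    rw [Fintype.card_fin] at this
    obtain rfl : r = 3 := (Nat.prime_dvd_prime_iff_eq hr Nat.prime_three).1 this
    exact .field hK ha (su_eq_inf hH h (su_not_le_field C (by omega) hr hK))
  | @tensor n₁ n₂ e P f₁ f₂ h2 h12 h₁ h₂ hs h =>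
    have hn' : n₁ * n₂ = 3 := by simpa using (Fintype.card_congr e).symm
    nlinarith
  | @power k t e P f₁ hk ht hex h₁ hs h =>
    have hn' : k ^ t = 3 := by simpa using (Fintype.card_congr e).symm
    have := Nat.pow_le_pow_left hk t
    have := Nat.pow_le_pow_right (by norm_num : 1 ≤ 3) ht
    omega

end CfsgLib.Perm.Asch.U3
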