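import Cfsg.Agent.Lib.Perm.Asch.Forms.UProper
import Cfsg.Agent.Lib.Perm.Trans.QuadFrames

/-!
# Three by three matrices over a field with `p ^ 2` elements by codes
-/

set_option autoImplicit false
set_option linter.all false

namespace CfsgLib.Perm.Asch.U3

open scoped Matrix
open Matrix Cfsg.Geo CfsgLib.SU

/-- sum of codes -/
def ga (p a b : ℕ) : ℕ := (a % p + b % p) % p + p * ((a / p + b / p) % p)

/-- product of codes -/
def gm (p nr a b : ℕ) : ℕ :=
  (a % p * (b % p) + nr * (a / p * (b / p))) % p + p * ((a % p * (b / p) + a / p * (b % p)) % p)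

/-- conjugate of a code -/
def gb (p a : ℕ) : ℕ := a % p + p * ((p - 1) * (a / p) % p)

/-- opposite of a code -/
def gn (p a : ℕ) : ℕ := (p - 1) * (a % p) % p + p * ((p - 1) * (a / p) % p)

/-- inverse of a code -/
def gi (p nr a : ℕ) : ℕ := ((List.range (p * p)).find? fun e => gm p nr a e == 1).getD 0

abbrev V3 := ℕ × ℕ × ℕ

abbrev M3 := V3 × V3 × V3

variable (p nr : ℕ)

/-- bilinear product -/
def dot3 (u v : V3) : ℕ := ga p (ga p (gm p nr u.1 v.1) (gm p nr u.2.1 v.2.1)) (gm p nr u.2.2 v.2.2)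

/-- matrix times vector -/
def mv (A : M3) (v : V3) : V3 := (dot3 p nr A.1 v, dot3 p nr A.2.1 v, dot3 p nr A.2.2 v)

/-- transpose -/
def tr3 (A : M3) : M3 :=
  ((A.1.1, A.2.1.1, A.2.2.1), (A.1.2.1, A.2.1.2.1, A.2.2.2.1), (A.1.2.2, A.2.1.2.2, A.2.2.2.2))

/-- product -/
def mm (A B : M3) : M3 :=
  let C := tr3 B
  ((dot3 p nr A.1 C.1, dot3 p nr A.1 C.2.1, dot3 p nr A.1 C.2.2),
   (dot3 p nr A.2.1 C.1, dot3 p nr A.2.1 C.2.1, dot3 p nr A.2.1 C.2.2),
   (dot3 p nr A.2.2 C.1, dot3 p nr A.2.2 C.2.1, dot3 p nr A.2.2 C.2.2))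

/-- conjugation of a vector -/
def vb (v : V3) : V3 := (gb p v.1, gb p v.2.1, gb p v.2.2)

/-- conjugate transpose -/
def star3 (A : M3) : M3 := (vb p (tr3 A).1, vb p (tr3 A).2.1, vb p (tr3 A).2.2)

/-- the identity -/
def one3 : M3 := ((1, 0, 0), (0, 1, 0), (0, 0, 1))

/-- scalar times vector -/
def vs (c : ℕ) (v : V3) : V3 := (gm p nr c v.1, gm p nr c v.2.1, gm p nr c v.2.2)

/-- determinant -/
def det3 (A : M3) : ℕ :=
  ga p (ga p
    (gm p nr A.1.1 (ga p (gm p nr A.2.1.2.1 A.2.2.2.2) (gn p (gm p nr A.2.1.2.2 A.2.2.2.1))))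
    (gn p (gm p nr A.1.2.1 (ga p (gm p nr A.2.1.1 A.2.2.2.2) (gn p (gm p nr A.2.1.2.2 A.2.2.1))))))
    (gm p nr A.1.2.2 (ga p (gm p nr A.2.1.1 A.2.2.2.1) (gn p (gm p nr A.2.1.2.1 A.2.2.1))))

/-- codes of vectors -/
def dv (n : ℕ) : V3 := (n % 32, n / 32 % 32, n / 1024)

/-- equality of code vectors -/
def veq (u v : V3) : Bool := Nat.beq u.1 v.1 && Nat.beq u.2.1 v.2.1 && Nat.beq u.2.2 v.2.2

/-- the matrix maps each listed point to the certified multiple of another one -/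
def presC (S : List ℕ) (A : M3) (cert : List (ℕ × ℕ)) : Bool :=
  Nat.beq S.length cert.length && (S.zip cert).all fun x =>
    Nat.ble 1 x.2.2 && Nat.blt x.2.2 (p * p) && Nat.blt x.2.1 S.length &&
      veq (mv p nr A (dv x.1)) (vs p nr x.2.2 (dv (S.getD x.2.1 0)))

/-- the matrix moves a point away from all listed points -/
def moves (S : List ℕ) (A : M3) (s₀ : ℕ) : Bool :=
  let v := mv p nr A (dv s₀)
  S.contains s₀ && S.all fun s => (List.range (p * p)).all fun c => !veq v (vs p nr c (dv s))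

/-- a matrix of codes gives an element of the special unitary group -/
def isSU (A : M3) : Bool := mm p nr (star3 p A) A == one3 && det3 p nr A == 1

section

variable {F : Type*} [Field F] {p nr}

/-- the element with a given code -/
def emb (p : ℕ) (w : F) (a : ℕ) : F := ((a % p : ℕ) : F) + ((a / p : ℕ) : F) * w

/-- the vector with given codes -/
def emV (p : ℕ) (w : F) (v : V3) : Fin 3 → F := ![emb p w v.1, emb p w v.2.1, emb p w v.2.2]

/-- the matrix with given codes -/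
def emM (p : ℕ) (w : F) (A : M3) : Matrix (Fin 3) (Fin 3) F := Matrix.of ![emV p w A.1, emV p w A.2.1, emV p w A.2.2]

/-- a generator of the quadratic extension -/
structure Mdl (σ : F →+* F) (p nr : ℕ) (w : F) : Prop where
  prime : p.Prime
  char : (p : F) = 0
  sq : w * w = (nr : F)
  bar : σ w = -w
  card : Nat.card F = p * p
  inj0 : ∀ d < p * p, d ≠ 0 → gm p nr d (gi p nr d) = 1
  sub0 : ∀ a < p * p, ∀ b < p * p, ga p a (gn p b) = 0 → a = b

namespace Mdl

variable {σ : F →+* F} {w : F} (M : Mdl σ p nr w)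
include M

theorem cast_mod (n : ℕ) : ((n % p : ℕ) : F) = (n : F) := by
  conv_rhs => rw [← Nat.div_add_mod n p]
  rw [Nat.cast_add, Nat.cast_mul, M.char, zero_mul, zero_add]

theorem emb_of (x y : ℕ) : emb p w (x % p + p * (y % p)) = (x : F) + (y : F) * w := by
  have hp := M.prime.pos
  have hx := Nat.mod_lt x hp
  rw [emb, Nat.add_mul_mod_self_left, Nat.mod_mod, Nat.add_mul_div_left _ _ hp, Nat.div_eq_of_lt hx, zero_add,
    M.cast_mod, M.cast_mod]

theorem emb_zero : emb p w 0 = 0 := by simp [emb]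

theorem emb_one : emb p w 1 = 1 := by
  simp [emb, Nat.one_mod_eq_one.2 M.prime.ne_one, Nat.div_eq_of_lt M.prime.one_lt]

theorem emb_ga (a b : ℕ) : emb p w (ga p a b) = emb p w a + emb p w b := by
  rw [ga, M.emb_of]
  simp [emb, Nat.cast_add]
  ring

theorem emb_gm (a b : ℕ) : emb p w (gm p nr a b) = emb p w a * emb p w b := by
  rw [gm, M.emb_of]
  simp only [emb, Nat.cast_add, Nat.cast_mul]
  linear_combination -((a / p : ℕ) : F) * ((b / p : ℕ) : F) * M.sq

theorem cast_pred : ((p - 1 : ℕ) : F) = -1 := by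
  rw [Nat.cast_sub M.prime.pos, M.char, Nat.cast_one, zero_sub]

theorem emb_gn (a : ℕ) : emb p w (gn p a) = -emb p w a := by
  rw [gn, M.emb_of]
  simp only [emb, Nat.cast_mul, M.cast_pred]
  ring

theorem emb_gb (a : ℕ) : emb p w (gb p a) = σ (emb p w a) := by
  rw [gb, show a % p = a % p % p from (Nat.mod_mod a p).symm, M.emb_of]
  simp only [emb, Nat.cast_mul, M.cast_pred, map_add, map_mul, map_natCast, M.bar]
  ring

theorem emb_eq_zero {d : ℕ} (hd : d < p * p) (h : emb p w d = 0) : d = 0 := by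
  by_contra h0
  have h1 := congrArg (emb p w) (M.inj0 d hd h0)
  rw [M.emb_gm, h, zero_mul, M.emb_one] at h1
  exact zero_ne_one h1

theorem emb_inj {a b : ℕ} (ha : a < p * p) (hb : b < p * p) (h : emb p w a = emb p w b) : a = b := by
  refine M.sub0 a ha b hb (M.emb_eq_zero ?_ (by rw [M.emb_ga, M.emb_gn, h, add_neg_cancel]))
  have h1 := Nat.mod_lt (a % p + gn p b % p) M.prime.pos
  have h2 := Nat.mod_lt (a / p + gn p b / p) M.prime.pos
  unfold ga
  nlinarith

theorem emb_surj [Finite F] (x : F) : ∃ a < p * p, emb p w a = x := by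
  haveI := Fintype.ofFinite F
  have hinj : Function.Injective fun a : Fin (p * p) => emb p w a.1 := fun a b h => Fin.ext (M.emb_inj a.2 b.2 h)
  obtain ⟨a, ha⟩ := ((Fintype.bijective_iff_injective_and_card _).2
    ⟨hinj, by rw [Fintype.card_fin, ← Nat.card_eq_fintype_card, M.card]⟩).2 x
  exact ⟨a.1, a.2, ha⟩

theorem emV_dot (u v : V3) : emV p w u ⬝ᵥ emV p w v = emb p w (dot3 p nr u v) := by
  simp [dot3, emV, dotProduct, Fin.sum_univ_three, M.emb_ga, M.emb_gm]

theorem emV_mv (A : M3) (v : V3) : emM p w A *ᵥ emV p w v = emV p w (mv p nr A v) := by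
  funext i
  fin_cases i <;> simp [mv, emM, emV, dot3, Matrix.mulVec, dotProduct, Fin.sum_univ_three, M.emb_ga, M.emb_gm]

theorem emM_mm (A B : M3) : emM p w (mm p nr A B) = emM p w A * emM p w B := by
  ext i j
  fin_cases i <;> fin_cases j <;>
    simp [mm, tr3, emM, emV, dot3, Matrix.mul_apply, Fin.sum_univ_three, M.emb_ga, M.emb_gm]

theorem emM_one : emM p w one3 = 1 := by
  ext i j
  fin_cases i <;> fin_cases j <;> simp [one3, emM, emV, M.emb_one, M.emb_zero]

theorem emM_star (A : M3) : emM p w (star3 p A) = (emM p w A)ᵀ.map σ := by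
  ext i j
  fin_cases i <;> fin_cases j <;> simp [star3, vb, tr3, emM, emV, M.emb_gb]

theorem emM_det (A : M3) : (emM p w A).det = emb p w (det3 p nr A) := by
  simp [Matrix.det_fin_three, emM, emV, det3, M.emb_ga, M.emb_gm, M.emb_gn]
  ring

theorem emV_vs (c : ℕ) (v : V3) : emV p w (vs p nr c v) = emb p w c • emV p w v := by
  funext i
  fin_cases i <;> simp [vs, emV, M.emb_gm]

theorem exists_su [Fintype F] (hinv : ∀ x, σ (σ x) = x) (hu : ∀ x, σ x = x ^ p) {A : M3} (hA : isSU p nr A = true) :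
    ∃ g : GL (Fin 3) F, (g : Matrix (Fin 3) (Fin 3) F) = emM p w A ∧ g ∈ suGL 3 F p := by
  simp only [isSU, Bool.and_eq_true, beq_iff_eq] at hA
  have hd : (emM p w A).det = 1 := by rw [M.emM_det, hA.2, M.emb_one]
  refine ⟨Matrix.GeneralLinearGroup.mkOfDetNeZero (emM p w A) (by rw [hd]; exact one_ne_zero), rfl, ?_, ?_⟩
  · have h1 : (emM p w A)ᵀ.map σ * emM p w A = 1 := by rw [← M.emM_star, ← M.emM_mm, hA.1, M.emM_one]
    have h2 : (emM p w A)ᵀ * (emM p w A).map σ = 1 := by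
      have := congrArg (fun X : Matrix (Fin 3) (Fin 3) F => X.map σ) h1
      simp only [Matrix.map_mul, Matrix.map_one σ σ.map_zero σ.map_one, Matrix.map_map] at this
      rwa [show (σ : F → F) ∘ σ = id from funext hinv, Matrix.map_id] at this
    show ∀ u v, Cfsg.hermForm 3 F p (emM p w A *ᵥ u) (emM p w A *ᵥ v) = Cfsg.hermForm 3 F p u v
    intro u v
    have e : ∀ u v : Fin 3 → F, Cfsg.hermForm 3 F p u v = u ⬝ᵥ (fun i => σ (v i)) := fun u v => by
      simp [Cfsg.hermForm, dotProduct, hu]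
    have e2 : (fun i => σ ((emM p w A *ᵥ v) i)) = (emM p w A).map σ *ᵥ (fun i => σ (v i)) := by
      funext i
      simp [Matrix.mulVec, dotProduct, map_sum]
    rw [e, e, e2, dotProduct_mulVec, ← mulVec_transpose, mulVec_mulVec]
    rw [show ((emM p w A).map σ)ᵀ * emM p w A = 1 by rw [← Matrix.transpose_map]; exact h1, one_mulVec]
  · exact Units.ext hd

end Mdl

/-- the vectors proportional to the listed ones -/
def PS (p : ℕ) (w : F) (S : List ℕ) : Set (Fin 3 → F) :=
  {v | ∃ s ∈ S, ∃ c : F, c ≠ 0 ∧ v = c • emV p w (dv s)}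

/-- the stabiliser of the listed points -/
def stabS (p : ℕ) (w : F) (S : List ℕ) : Subgroup (GL (Fin 3) F) :=
  Cfsg.stabilizing (Cfsg.glToMat (Fin 3) F) (PS p w S)

variable [Fintype F] {σ : F →+* F} {w : F}

theorem veq_iff {u v : V3} : veq u v = true ↔ u = v := by
  obtain ⟨a, b, c⟩ := u
  obtain ⟨x, y, z⟩ := v
  simp [veq, and_assoc]

theorem mem_stabS (M : Mdl σ p nr w) {S : List ℕ} {g : GL (Fin 3) F} {A : M3} {c : F} (hc : c ≠ 0)
    (hg : (g : Matrix (Fin 3) (Fin 3) F) = c • emM p w A) {cert : List (ℕ × ℕ)} (hA : presC p nr S A cert = true) :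
    g ∈ stabS p w S := by
  refine CfsgLib.Perm.Trans.Quad.stabilizing_of_maps ?_
  rintro x ⟨s, hs, d, hd, rfl⟩
  simp only [presC, Bool.and_eq_true, Nat.beq_eq, List.all_eq_true, Nat.ble_eq, Nat.blt_eq] at hA
  obtain ⟨hlen, hall⟩ := hA
  obtain ⟨i, hi, rfl⟩ := List.getElem_of_mem hs
  have hz : (S[i], cert[i]'(hlen ▸ hi)) ∈ S.zip cert := by
    rw [← List.getElem_zip (i := i) (h := by rw [List.length_zip, ← hlen, min_self]; exact hi)]
    exact List.getElem_mem _
  obtain ⟨⟨⟨hk1, hk⟩, hj⟩, hv⟩ := hall _ hz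
  rw [veq_iff] at hv
  set j := (cert[i]'(hlen ▸ hi)).1
  set k := (cert[i]'(hlen ▸ hi)).2
  have hk0 : emb p w k ≠ 0 := fun h => by
    have := M.emb_eq_zero hk h
    omega
  refine ⟨_, (List.getD_eq_getElem S 0 hj) ▸ List.getElem_mem hj, d * c * emb p w k,
    mul_ne_zero (mul_ne_zero hd hc) hk0, ?_⟩
  rw [hg, mulVec_smul, smul_mulVec, M.emV_mv, hv, M.emV_vs, smul_smul, smul_smul]

theorem code_lt {p : ℕ} (hp : 0 < p) (x y : ℕ) : x % p + p * (y % p) < p * p := by
  have h1 := Nat.mod_lt x hp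
  have h2 := Nat.mod_lt y hp
  nlinarith

/-- a witness outside the stabiliser -/
theorem not_mem_stabS (M : Mdl σ p nr w) {S : List ℕ} {g : GL (Fin 3) F} {A : M3} {s₀ : ℕ}
    (hg : (g : Matrix (Fin 3) (Fin 3) F) = emM p w A) (hA : moves p nr S A s₀ = true) : g ∉ stabS p w S := by
  intro hmem
  simp only [moves, Bool.and_eq_true, List.contains_iff_mem, List.all_eq_true, List.mem_range,
    Bool.not_eq_true', ← Bool.not_eq_true] at hA
  obtain ⟨s, hs, c, hc, he⟩ := (hmem (emV p w (dv s₀))).1 ⟨s₀, hA.1, 1, one_ne_zero, (one_smul F _).symm⟩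
  obtain ⟨k, hk, rfl⟩ := M.emb_surj c
  change (g : Matrix (Fin 3) (Fin 3) F) *ᵥ emV p w (dv s₀) = _ at he
  rw [hg, M.emV_mv, ← M.emV_vs] at he
  have hp := M.prime.pos
  refine hA.2 s hs k hk (veq_iff.2 (Prod.ext (M.emb_inj (code_lt hp _ _) (code_lt hp _ _) (congrFun he 0))
    (Prod.ext (M.emb_inj (code_lt hp _ _) (code_lt hp _ _) (congrFun he 1))
      (M.emb_inj (code_lt hp _ _) (code_lt hp _ _) (congrFun he 2)))))

/-- the model exists -/
theorem exists_mdl (hF : Fintype.card F = p ^ 2) (hp : p.Prime) (hσ : ∀ x, σ x = x ^ p)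
    (hodd : p % 2 = 1) (hnr : (nr : ZMod p) ^ (p / 2) = -1)
    (h1 : ∀ d < p * p, d ≠ 0 → gm p nr d (gi p nr d) = 1)
    (h2 : ∀ a < p * p, ∀ b < p * p, ga p a (gn p b) = 0 → a = b) : ∃ w : F, Mdl σ p nr w := by
  haveI : Fact p.Prime := ⟨hp⟩
  haveI : CharP F p := by
    obtain ⟨r, a, hr, hcr, hcard, ha⟩ := exists_char_card (F := F)
    have : p ∣ r ^ a := hcard ▸ hF ▸ dvd_pow_self p two_ne_zero
    rwa [← (Nat.prime_dvd_prime_iff_eq hp hr).1 (hp.dvd_of_dvd_pow this)] at hcr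
  have hnr' : ((nr : F)) ^ (p / 2) = -1 := by
    have := congrArg (ZMod.castHom (dvd_refl p) F) hnr
    simpa using this
  have h0 : (nr : F) ≠ 0 := fun h => by
    rw [h] at hnr'
    rcases Nat.eq_zero_or_pos (p / 2) with hz | hz
    · have := hp.two_le; omega
    · rw [zero_pow hz.ne'] at hnr'
      exact one_ne_zero (neg_eq_zero.1 hnr'.symm)
  have hsq : IsSquare (nr : F) := by
    rw [FiniteField.isSquare_iff (by rw [ringChar.eq F p]; omega) h0, hF]
    have hfix : (nr : F) ^ p = nr := by rw [← frobenius_def, map_natCast]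
    have e : p ^ 2 / 2 = p / 2 * (p + 1) := by
      obtain ⟨j, rfl⟩ : ∃ j, p = 2 * j + 1 := ⟨p / 2, by omega⟩
      rw [show (2 * j + 1) / 2 = j by omega,
        show (2 * j + 1) ^ 2 = 2 * (j * (2 * j + 1 + 1)) + 1 by ring]
      omega
    rw [e, pow_mul, hnr', Even.neg_one_pow]
    exact Nat.even_add_one.2 (by simp [Nat.even_iff]; omega)
  obtain ⟨w, hw⟩ := hsq
  refine ⟨w, hp, CharP.cast_eq_zero F p, hw.symm, ?_, by rw [Nat.card_eq_fintype_card, hF, sq], h1, h2⟩
  rw [hσ]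
  have e : p = 2 * (p / 2) + 1 := by omega
  conv_lhs => rw [e, pow_succ, pow_mul, sq, ← hw, hnr']
  ring

end

end CfsgLib.Perm.Asch.U3
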