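import Cfsg.Agent.Lib.Perm.Asch.Forms.U3.Frame
import Cfsg.Agent.Lib.Perm.Asch.Forms.U3.Max
import Cfsg.Agent.Lib.Classical.SymmDiag

/-!
# The orthogonal subgroups of `SU_3(3)` and `SU_3(5)` are not maximal
-/

set_option autoImplicit false
set_option linter.all false
set_option synthInstance.maxSize 20000

namespace CfsgLib.Perm.Asch.U3

open scoped Classical Matrix
open Matrix Cfsg.Geo CfsgLib.SU

theorem square_class : ∀ p : ℕ, p = 3 ∨ p = 5 → ∀ n < p, n ≠ 0 →
    ∃ s < p, s ≠ 0 ∧ (n = s * s % p ∨ n = 2 * (s * s) % p) := by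
  intro p hp
  rcases hp with rfl | rfl <;> decide +kernel

theorem real_code : ∀ p : ℕ, p = 3 ∨ p = 5 → ∀ a < p * p, gb p a = a → a < p := by
  intro p hp
  rcases hp with rfl | rfl <;> decide +kernel

theorem first_col : ∀ a < 5, ∀ b < 5, ∀ c < 5, (a * a + b * b + c * c) % 5 = 1 →
    ∃ A ∈ genT, ent A 0 0 = a ∧ ent A 1 0 = b ∧ ent A 2 0 = c := by decide +kernel

theorem rot_table : ((List.range 5).all fun e => (List.range 5).all fun f => (List.range 5).all fun g =>
    (List.range 5).all fun h => !(Nat.beq ((e * e + g * g) % 5) 1 && Nat.beq ((f * f + h * h) % 5) 1 &&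
      Nat.beq ((e * f + g * h) % 5) 0 && Nat.beq ((e * h + 4 * (f * g)) % 5) 1) ||
      genRot.contains ((1, 0, 0), (0, e, f), (0, g, h))) = true := by decide +kernel

theorem rot_block {e f g h : ℕ} (he : e < 5) (hf : f < 5) (hg : g < 5) (hh : h < 5)
    (h1 : (e * e + g * g) % 5 = 1) (h2 : (f * f + h * h) % 5 = 1) (h3 : (e * f + g * h) % 5 = 0)
    (h4 : (e * h + 4 * (f * g)) % 5 = 1) : ((1, 0, 0), (0, e, f), (0, g, h)) ∈ genRot := by
  have t := rot_table
  simp only [List.all_eq_true, List.mem_range] at t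
  have t' := t e he f hf g hg h hh
  simp only [h1, h2, h3, h4] at t'
  exact List.contains_iff_mem.1 (by simpa using t')

theorem genT_real : ∀ A ∈ genT, ∀ i j : Fin 3, ent A i j < 5 := by decide +kernel

variable {F : Type*} [Field F] [Fintype F] {p : ℕ} {σ : F →+* F} {w : F}

theorem Ctx.real_nat (X : Ctx σ p w) (hp : p = 3 ∨ p = 5) {x : F} (hx : σ x = x) : ∃ n < p, (n : F) = x := by
  obtain ⟨a, ha, rfl⟩ := X.M.emb_surj x
  rw [← X.M.emb_gb] at hx
  have h := real_code p hp a ha (X.M.emb_inj (code_lt X.M.prime.pos _ _) ha hx)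
  exact ⟨a, h, by simp [emb, Nat.mod_eq_of_lt h, Nat.div_eq_of_lt h]⟩

theorem Ctx.nat_eq (X : Ctx σ p w) (hp : p = 3 ∨ p = 5) {m n : ℕ} (h : (m : F) = n) : m % p = n % p := by
  rw [← X.M.cast_mod m, ← X.M.cast_mod n] at h
  have e : ∀ k < p, emb p w k = (k : F) := fun k hk => by simp [emb, Nat.mod_eq_of_lt hk, Nat.div_eq_of_lt hk]
  have hp0 := X.M.prime.pos
  have hlt : ∀ k < p, k < p * p := fun k hk => by nlinarith
  exact X.M.emb_inj (hlt _ (Nat.mod_lt _ hp0)) (hlt _ (Nat.mod_lt _ hp0))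
    (by rw [e _ (Nat.mod_lt _ hp0), e _ (Nat.mod_lt _ hp0), h])

/-- orthogonal rational vectors of one norm -/
theorem Ctx.exists_equal (X : Ctx σ p w) (hp : p = 3 ∨ p = 5) (C : UCtx F p) (hC : ∀ x, C.bar x = σ x)
    (P : GL (Fin 3) F) (hs : ∀ x y : Fin 3 → F, (∀ i, σ (x i) = x i) → (∀ i, σ (y i) = y i) →
      σ (C.form ((P : Matrix (Fin 3) (Fin 3) F) *ᵥ x) ((P : Matrix (Fin 3) (Fin 3) F) *ᵥ y)) =
        C.form ((P : Matrix (Fin 3) (Fin 3) F) *ᵥ x) ((P : Matrix (Fin 3) (Fin 3) F) *ᵥ y)) :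
    ∃ (t : Fin 3 → Fin 3 → F) (l : F), l ≠ 0 ∧ σ l = l ∧ (∀ i j, σ (t i j) = t i j) ∧
      ∀ i j, C.form ((P : Matrix (Fin 3) (Fin 3) F) *ᵥ t i) ((P : Matrix (Fin 3) (Fin 3) F) *ᵥ t j) =
        if i = j then l else 0 := by
  set f : (Fin 3 → F) → (Fin 3 → F) → F :=
    fun x y => C.form ((P : Matrix (Fin 3) (Fin 3) F) *ᵥ x) ((P : Matrix (Fin 3) (Fin 3) F) *ᵥ y) with hf
  have al : ∀ x y z, f (x + y) z = f x z + f y z := fun x y z => by simp only [hf, mulVec_add, C.form_add_left]
  have ar : ∀ x y z, f x (y + z) = f x y + f x z := fun x y z => by simp only [hf, mulVec_add, C.form_add_right]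
  have sl : ∀ (c : F) x y, f (c • x) y = c * f x y := fun c x y => by simp only [hf, mulVec_smul, C.form_smul_left]
  have sr : ∀ (c : F) x y, σ c = c → f x (c • y) = c * f x y := fun c x y hc => by
    simp only [hf, mulVec_smul, C.form_smul_right, hC, hc]
  have hsymm : ∀ x y, (∀ i, σ (x i) = x i) → (∀ i, σ (y i) = y i) → f y x = f x y := fun x y hx hy => by
    simp only [hf]
    rw [← hs x y hx hy, ← hC]
    exact (C.bar_form _ _).symm
  let F₁ : Subfield F :=
    { carrier := {x | σ x = x}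
      mul_mem' := fun {a b} ha hb => by simp only [Set.mem_setOf_eq, map_mul] at *; rw [ha, hb]
      one_mem' := map_one _
      add_mem' := fun {a b} ha hb => by simp only [Set.mem_setOf_eq, map_add] at *; rw [ha, hb]
      zero_mem' := map_zero _
      neg_mem' := fun {a} ha => by simp only [Set.mem_setOf_eq, map_neg] at *; rw [ha]
      inv_mem' := fun a ha => by simp only [Set.mem_setOf_eq, map_inv₀] at *; rw [ha] }
  let co : (Fin 3 → F₁) → Fin 3 → F := fun x i => (x i : F)
  have co_add : ∀ x y, co (x + y) = co x + co y := fun _ _ => rfl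
  have co_smul : ∀ (c : F₁) x, co (c • x) = (c : F) • co x := fun _ _ => rfl
  have hco : ∀ x i, σ (co x i) = co x i := fun x i => (x i).2
  let B : LinearMap.BilinForm F₁ (Fin 3 → F₁) :=
    LinearMap.mk₂ F₁ (fun x y => (⟨f (co x) (co y), hs _ _ (hco x) (hco y)⟩ : F₁))
      (fun x y z => Subtype.ext (by simp only [co_add, al]; rfl))
      (fun c x y => Subtype.ext (by simp only [co_smul, sl]; rfl))
      (fun x y z => Subtype.ext (by simp only [co_add, ar]; rfl))
      (fun c x y => Subtype.ext (by simp only [co_smul, sr _ _ _ c.2]; rfl))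
  have hB : ∀ x y, (B x y : F) = f (co x) (co y) := fun _ _ => rfl
  have h2 : (2 : F) ≠ 0 := fun h => by
    have := X.nat_eq hp (m := 2) (n := 0) (by simpa using h)
    rcases hp with rfl | rfl <;> omega
  have hnd : ∀ x : Fin 3 → F₁, (∀ y, B x y = 0) → x = 0 := fun x hx => by
    have h0 : (P : Matrix (Fin 3) (Fin 3) F) *ᵥ co x = 0 := C.eq_zero_of_form fun v => by
      obtain ⟨c, rfl⟩ : ∃ c, (P : Matrix (Fin 3) (Fin 3) F) *ᵥ c = v :=
        ⟨((P⁻¹ : GL (Fin 3) F) : Matrix (Fin 3) (Fin 3) F) *ᵥ v, by rw [mulVec_mulVec, gl_mul_inv, one_mulVec]⟩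
      have hb : ∀ j, f (co x) (Pi.single j 1) = 0 := fun j => by
        have h := congrArg Subtype.val (hx (Pi.single j 1))
        rw [hB] at h
        have e : co (Pi.single j 1) = Pi.single j 1 := by
          funext i
          simp only [co, Pi.single_apply]
          split <;> simp
        rw [e] at h
        exact h
      have hc : c = c 0 • Pi.single 0 1 + c 1 • Pi.single 1 1 + c 2 • Pi.single 2 1 := by
        funext i; fin_cases i <;> simp
      have hb' : ∀ j, C.form ((P : Matrix (Fin 3) (Fin 3) F) *ᵥ co x)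
          ((P : Matrix (Fin 3) (Fin 3) F) *ᵥ Pi.single j 1) = 0 := hb
      rw [hc]
      simp only [mulVec_add, mulVec_smul, C.form_add_right, C.form_smul_right, hb', mul_zero, add_zero]
    have h1 := congrArg (fun z => ((P⁻¹ : GL (Fin 3) F) : Matrix (Fin 3) (Fin 3) F) *ᵥ z) h0
    simp only [mulVec_mulVec, gl_inv_mul, one_mulVec, mulVec_zero] at h1
    exact funext fun i => Subtype.ext (congrFun h1 i)
  obtain ⟨v, ho, hne⟩ := CfsgLib.Classical.exists_orthogonal_anisotropic (F := F₁)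
    (fun h => h2 (congrArg Subtype.val h)) B
    ⟨fun x y => Subtype.ext (hsymm _ _ (hco y) (hco x))⟩
    ⟨hnd, fun y hy => hnd y fun x => (Subtype.ext (hsymm _ _ (hco x) (hco y))).trans (hy x)⟩ (n := 3) (by simp)
  -- scale to norms one or two
  have hnorm : ∀ i, ∃ (x : Fin 3 → F) (s : F), (∀ j, σ (x j) = x j) ∧ (f x x = 1 ∨ f x x = 2) ∧
      σ s = s ∧ x = s • co (v i) := fun i => by
    have hfix : σ (f (co (v i)) (co (v i))) = f (co (v i)) (co (v i)) := hs _ _ (hco _) (hco _)
    obtain ⟨n, hn, hn'⟩ := X.real_nat hp hfix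
    have hn0 : n ≠ 0 := fun h => hne i (Subtype.ext (show f (co (v i)) (co (v i)) = 0 by rw [← hn', h, Nat.cast_zero]))
    obtain ⟨s, hs', hs0, hsn⟩ := square_class p hp n hn hn0
    have hsF : (s : F) ≠ 0 := fun h => by
      have h1 := X.nat_eq hp (m := s) (n := 0) (by simpa using h)
      rw [Nat.mod_eq_of_lt hs', Nat.zero_mod] at h1
      exact hs0 h1
    refine ⟨((s : F))⁻¹ • co (v i), (s : F)⁻¹, fun j => ?_, ?_, by simp, rfl⟩
    · simp [hco]
    · rw [sl, sr _ _ _ (by simp), ← hn']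
      rcases hsn with h | h <;> [left; right] <;>
      · rw [h, X.M.cast_mod]
        push_cast
        field_simp
  choose x s hx hxn hss hxv using hnorm
  have hxo : ∀ i j, i ≠ j → f (x i) (x j) = 0 := fun i j hij => by
    have h := congrArg Subtype.val (ho i j hij)
    rw [hB] at h
    rw [hxv i, hxv j, sl, sr _ _ _ (hss j), h]
    simp
  -- make them equal
  have mix : ∀ i j k : Fin 3, i ≠ j → i ≠ k → j ≠ k → f (x i) (x i) = f (x j) (x j) →
      f (x k) (x k) ≠ f (x i) (x i) →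
      ∃ (t : Fin 3 → Fin 3 → F) (l : F), l ≠ 0 ∧ σ l = l ∧ (∀ a b, σ (t a b) = t a b) ∧
        ∀ a b, f (t a) (t b) = if a = b then l else 0 := by
    intro i j k hij hik hjk heq hk
    obtain ⟨c, hc, hc2⟩ : ∃ c : F, σ c = c ∧ c * c * (f (x i) (x i) + f (x i) (x i)) = f (x k) (x k) := by
      rcases hxn i with a | a <;> rcases hxn k with b | b <;> rw [a, b] at hk ⊢
      · exact absurd rfl hk
      · exact ⟨1, map_one _, by ring⟩
      · exact ⟨2⁻¹, by rw [map_inv₀, map_ofNat], by field_simp; ring⟩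
      · exact absurd rfl hk
    have hcn : σ (-c) = -c := by rw [map_neg, hc]
    refine ⟨![c • x i + c • x j, c • x i + (-c) • x j, x k], f (x k) (x k), ?_, hs _ _ (hx k) (hx k),
      fun a b => ?_, fun a b => ?_⟩
    · rcases hxn k with h | h <;> rw [h]
      · exact one_ne_zero
      · exact h2
    · fin_cases a <;> simp [hx, hc]
    · fin_cases a <;> fin_cases b <;>
        simp [-neg_smul, al, ar, sl, sr _ _ _ hc, sr _ _ _ hcn, hxo i j hij, hxo j i hij.symm, hxo i k hik, hxo k i hik.symm,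
          hxo j k hjk, hxo k j hjk.symm, ← heq] <;> linear_combination hc2
  by_cases h01 : f (x 0) (x 0) = f (x 1) (x 1)
  · by_cases h02 : f (x 2) (x 2) = f (x 0) (x 0)
    · refine ⟨x, f (x 0) (x 0), ?_, hs _ _ (hx 0) (hx 0), fun i j => hx i j, fun i j => ?_⟩
      · rcases hxn 0 with h | h <;> rw [h]
        · exact one_ne_zero
        · exact h2
      · show f (x i) (x j) = _
        split
        · next h => subst h; fin_cases i <;> first | rfl | exact h01.symm | exact h02
        · next h => exact hxo i j h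
    · exact mix 0 1 2 (by decide) (by decide) (by decide) h01 h02
  · rcases hxn 2 with h | h <;> rcases hxn 0 with a | a <;> rcases hxn 1 with b | b <;>
      first | exact absurd (a.trans b.symm) h01 |
        exact mix 0 2 1 (by decide) (by decide) (by decide) (a.trans h.symm) (Ne.symm h01) |
        exact mix 1 2 0 (by decide) (by decide) (by decide) (b.trans h.symm) h01

/-- the rational structure in an orthonormal frame -/
theorem Ctx.exists_real (X : Ctx σ p w) (hp : p = 3 ∨ p = 5) {F₀ : Subfield F} {P : GL (Fin 3) F}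
    (hc : Fintype.card F = Nat.card F₀ ^ 2) (hs : IsFormRationalStructure (Cfsg.hermForm 3 F p) F₀ 1 P) :
    ∃ u ∈ Cfsg.GU 3 F p, ∀ g ∈ subfieldSubgroup F₀ P, g ∈ suGL 3 F p →
      ∃ (c : F) (M : Matrix (Fin 3) (Fin 3) F), (∀ i j, σ (M i j) = M i j) ∧ Mᵀ * M = 1 ∧ M.det = 1 ∧
        ((u⁻¹ * g * u : GL (Fin 3) F) : Matrix (Fin 3) (Fin 3) F) = c • M := by
  obtain ⟨C, hC⟩ := exists_uctx X.hu
  have hc0 : Nat.card F₀ = p := Nat.pow_left_injective two_ne_zero (hc.symm.trans X.hu.card)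
  have hreal : ∀ x ∈ F₀, σ x = x := fun x hx => by
    haveI : Fintype F₀ := Fintype.ofFinite F₀
    have h := congrArg Subtype.val (FiniteField.pow_card (⟨x, hx⟩ : F₀))
    rw [← Nat.card_eq_fintype_card, hc0] at h
    rw [X.bar]
    simpa using h
  have hmem : ∀ x, σ x = x → x ∈ F₀ := fun x hx => by
    obtain ⟨n, -, rfl⟩ := X.real_nat hp hx
    exact natCast_mem F₀ n
  obtain ⟨t, l, hl0, hl, ht, hto⟩ := X.exists_equal hp C hC P fun x y hx hy => by
    have h := hreal _ (hs x y (fun i => hmem _ (hx i)) (fun i => hmem _ (hy i)))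
    rwa [one_mul, herm_form C] at h
  obtain ⟨s, hs0, hsl⟩ := X.hu.exists_norm hl0 hl
  set T : Matrix (Fin 3) (Fin 3) F := Matrix.of fun i j => t j i with hT
  set U : Matrix (Fin 3) (Fin 3) F := s⁻¹ • ((P : Matrix (Fin 3) (Fin 3) F) * T) with hU
  have hUcol : ∀ i j, U j i = (s⁻¹ • ((P : Matrix (Fin 3) (Fin 3) F) *ᵥ t i)) j := fun i j => by
    simp [hU, hT, Matrix.mul_apply, Matrix.mulVec, dotProduct]
  have hUU : Uᵀ.map σ * U = 1 := by
    ext i j
    rw [Matrix.mul_apply]
    have h : ∑ a, Uᵀ.map σ i a * U a j =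
        C.form (s⁻¹ • ((P : Matrix (Fin 3) (Fin 3) F) *ᵥ t j)) (s⁻¹ • ((P : Matrix (Fin 3) (Fin 3) F) *ᵥ t i)) := by
      refine Finset.sum_congr rfl fun a _ => ?_
      rw [Matrix.map_apply, Matrix.transpose_apply, hUcol, hUcol, hC, mul_comm]
    rw [h, C.form_smul_left, C.form_smul_right, hto, hC, map_inv₀]
    rcases eq_or_ne j i with rfl | hji
    · rw [if_pos rfl, Matrix.one_apply_eq, ← hsl]
      have := (map_ne_zero σ).2 hs0
      field_simp
    · rw [if_neg hji, mul_zero, mul_zero, Matrix.one_apply_ne hji.symm]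
  have hUd : U.det ≠ 0 := fun h => by
    have := congrArg Matrix.det hUU
    rw [Matrix.det_mul, h, mul_zero, Matrix.det_one] at this
    exact zero_ne_one this
  have hTd : T.det ≠ 0 := fun h => hUd (by rw [hU, Matrix.det_smul, Matrix.det_mul, h, mul_zero, mul_zero])
  set tT := Matrix.GeneralLinearGroup.mkOfDetNeZero T hTd
  set u := Matrix.GeneralLinearGroup.mkOfDetNeZero U hUd with hu
  refine ⟨u, X.mem_GU_iff.2 hUU, fun g hg hgsu => ?_⟩
  obtain ⟨z, hz, rfl⟩ := Subgroup.mem_map.1 hg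
  obtain ⟨b, ⟨B₀, hB₀⟩, a, ha, rfl⟩ := Subgroup.mem_sup_of_normal_right.1 hz
  obtain ⟨ν, hν⟩ := mem_scalars.1 ha
  set k := u⁻¹ * MulAut.conj P (b * a) * u with hk
  have hkM : (k : Matrix (Fin 3) (Fin 3) F) =
      (ν : F) • ((((tT⁻¹ : GL (Fin 3) F) * b * tT : GL (Fin 3) F)) : Matrix (Fin 3) (Fin 3) F) := by
    have e : (u : Matrix (Fin 3) (Fin 3) F) = s⁻¹ • ((P * tT : GL (Fin 3) F) : Matrix (Fin 3) (Fin 3) F) := rfl
    have e' : ((u⁻¹ : GL (Fin 3) F) : Matrix (Fin 3) (Fin 3) F) =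
        s • (((P * tT)⁻¹ : GL (Fin 3) F) : Matrix (Fin 3) (Fin 3) F) := by
      have h : (s • (((P * tT)⁻¹ : GL (Fin 3) F) : Matrix (Fin 3) (Fin 3) F)) * (u : Matrix (Fin 3) (Fin 3) F) = 1 := by
        rw [e, smul_mul_assoc, mul_smul_comm, gl_inv_mul, smul_smul, mul_inv_cancel₀ hs0, one_smul]
      calc ((u⁻¹ : GL (Fin 3) F) : Matrix (Fin 3) (Fin 3) F)
          = (s • (((P * tT)⁻¹ : GL (Fin 3) F) : Matrix (Fin 3) (Fin 3) F)) * (u : Matrix (Fin 3) (Fin 3) F) *
              ((u⁻¹ : GL (Fin 3) F) : Matrix (Fin 3) (Fin 3) F) := by rw [h, one_mul]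
        _ = _ := by rw [mul_assoc, gl_mul_inv, mul_one]
    have e2 : ((P * tT)⁻¹ * MulAut.conj P b * (P * tT) : GL (Fin 3) F) = tT⁻¹ * b * tT := by
      rw [MulAut.conj_apply]; group
    have e3 : (MulAut.conj P (b * a) : Matrix (Fin 3) (Fin 3) F) =
        (ν : F) • (MulAut.conj P b : Matrix (Fin 3) (Fin 3) F) := by
      simp only [MulAut.conj_apply, Units.val_mul, hν, mul_smul_comm, smul_mul_assoc, mul_one]
    rw [← e2, hk, Units.val_mul, Units.val_mul, e, e', e3, Units.val_mul _ (P * tT), Units.val_mul (P * tT)⁻¹]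
    simp only [smul_mul_assoc, mul_smul_comm, smul_smul]
    congr 1
    field_simp
  set M₀ : Matrix (Fin 3) (Fin 3) F := (((tT⁻¹ : GL (Fin 3) F) * b * tT : GL (Fin 3) F) : Matrix (Fin 3) (Fin 3) F) with hM₀
  have hbr : ∀ i j, σ ((b : Matrix (Fin 3) (Fin 3) F) i j) = (b : Matrix (Fin 3) (Fin 3) F) i j := fun i j => by
    rw [← hB₀]
    exact hreal _ ((B₀ : Matrix (Fin 3) (Fin 3) F₀) i j).2
  have hTr : ((tT⁻¹ : GL (Fin 3) F) : Matrix (Fin 3) (Fin 3) F).map σ = ((tT⁻¹ : GL (Fin 3) F) : Matrix (Fin 3) (Fin 3) F) := by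
    have hTm : (tT : Matrix (Fin 3) (Fin 3) F).map σ = (tT : Matrix (Fin 3) (Fin 3) F) := by
      ext i j; exact ht j i
    calc ((tT⁻¹ : GL (Fin 3) F) : Matrix (Fin 3) (Fin 3) F).map σ
        = ((tT⁻¹ : GL (Fin 3) F) : Matrix (Fin 3) (Fin 3) F).map σ * (tT : Matrix (Fin 3) (Fin 3) F).map σ *
            ((tT⁻¹ : GL (Fin 3) F) : Matrix (Fin 3) (Fin 3) F) := by
          rw [hTm, mul_assoc, gl_mul_inv, mul_one]
      _ = _ := by rw [← Matrix.map_mul, gl_inv_mul, Matrix.map_one σ σ.map_zero σ.map_one, one_mul]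
  have hM₀r : M₀.map σ = M₀ := by
    rw [hM₀, Units.val_mul, Units.val_mul, Matrix.map_mul, Matrix.map_mul, hTr,
      show (b : Matrix (Fin 3) (Fin 3) F).map σ = b from Matrix.ext hbr,
      show (tT : Matrix (Fin 3) (Fin 3) F).map σ = tT from Matrix.ext fun i j => ht j i]
  have hku : k ∈ suGL 3 F p := by
    have h := X.conj_mem ((Cfsg.GU 3 F p).inv_mem (X.mem_GU_iff.2 hUU : u ∈ Cfsg.GU 3 F p)) hgsu
    rwa [inv_inv] at h
  have h1 : (σ (ν : F) * ν) • (M₀ᵀ * M₀) = 1 := by
    have h := X.mem_GU_iff.1 hku.1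
    rw [hkM, Matrix.transpose_smul, show ((ν : F) • M₀ᵀ).map σ = σ (ν : F) • M₀ᵀ.map σ by ext i j; simp,
      Matrix.transpose_map, hM₀r, smul_mul_assoc, mul_smul_comm, smul_smul] at h
    exact h
  have hd : (σ (ν : F) * ν) ^ 3 * (M₀.det * M₀.det) = 1 := by
    have h := congrArg Matrix.det h1
    rwa [Matrix.det_smul, Fintype.card_fin, Matrix.det_mul, Matrix.det_transpose, Matrix.det_one] at h
  set m := σ (ν : F) * ν
  set d := M₀.det with hd'
  have hm : σ m = m := by simp [m, X.hu.inv, mul_comm]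
  have hdr : σ d = d := by rw [hd', RingHom.map_det, RingHom.mapMatrix_apply, hM₀r]
  have hd1 : (ν : F) * ν * ν * d = 1 := by
    have h := congrArg Units.val (MonoidHom.mem_ker.1 hku.2)
    rw [Matrix.GeneralLinearGroup.val_det_apply, Units.val_one, hkM, Matrix.det_smul, Fintype.card_fin] at h
    linear_combination h
  have hr0 : d * m ≠ 0 := fun h => by
    apply one_ne_zero (α := F)
    rw [← hd]
    linear_combination (d * m * m) * h
  set r := (d * m)⁻¹ with hr
  have hrr : r * r = m := by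
    rw [hr, ← mul_inv]
    refine inv_eq_of_mul_eq_one_left ?_
    linear_combination hd
  have hrd : σ r = r := by rw [hr, map_inv₀, map_mul, hdr, hm]
  set e := r * r * r * d with he
  have hee : e * e = 1 := by
    rw [he, ← hd, ← hrr]; ring
  refine ⟨(ν : F) * (e * r)⁻¹, (e * r) • M₀, fun i j => ?_, ?_, ?_, ?_⟩
  · have : σ (M₀ i j) = M₀ i j := congrFun (congrFun hM₀r i) j
    simp [Matrix.smul_apply, this, hrd, hdr, he]
  · rw [Matrix.transpose_smul, smul_mul_assoc, mul_smul_comm, smul_smul, ← h1]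
    congr 1
    linear_combination (r * r) * hee + hrr
  · rw [Matrix.det_smul, Fintype.card_fin, ← hd']
    linear_combination (e * e + 1) * hee - (e ^ 3) * he
  · show (k : Matrix (Fin 3) (Fin 3) F) = _
    rw [hkM, smul_smul, mul_assoc, inv_mul_cancel₀, mul_one]
    refine mul_ne_zero (fun h => one_ne_zero (α := F) (by rw [← hee, h, zero_mul])) fun h => hr0 ?_
    exact inv_eq_zero.1 h

/-- for three elements the orthogonal group is monomial -/
theorem orth_three (hF : Fintype.card F = 3 ^ 2) {H : Subgroup (GL (Fin 3) F)}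
    (hH : IsMaximalIn (suGL 3 F 3) H) {F₀ : Subfield F} {P : GL (Fin 3) F} (hc : Fintype.card F = Nat.card F₀ ^ 2)
    (hs : IsFormRationalStructure (Cfsg.hermForm 3 F 3) F₀ 1 P) (hle : H ≤ subfieldSubgroup F₀ P) :
    ∃ D : Fin 3 → Submodule F (Fin 3 → F), IsNondegenerateMDecomposition (Cfsg.hermForm 3 F 3) 1 D ∧
      H = decompositionStabilizer D ⊓ suGL 3 F 3 := by
  obtain ⟨σ, w, X⟩ := exists_ctx hF (Or.inl rfl)
  obtain ⟨C, hC⟩ := exists_uctx X.hu
  obtain ⟨u, huU, hu⟩ := X.exists_real (Or.inl rfl) hc hs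
  set v : Fin 3 → Fin 3 → F := fun i => (u : Matrix (Fin 3) (Fin 3) F) *ᵥ Pi.single i 1 with hv
  have hvv : ∀ i j, C.form (v i) (v j) = if i = j then 1 else 0 := fun i j => by
    rw [← herm_form C, show Cfsg.hermForm 3 F 3 (v i) (v j) = Cfsg.hermForm 3 F 3 (Pi.single i 1) (Pi.single j 1)
      from huU _ _, herm_form C]
    simp [UCtx.form, Pi.single_apply, eq_comm]
  have hv0 : ∀ i, v i ≠ 0 := fun i h => by
    have := hvv i i
    rw [h, C.form_zero_left, if_pos rfl] at this
    exact zero_ne_one this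
  have hli : LinearIndependent F v := Fintype.linearIndependent_iff.2 fun c hc i => by
    have h := congrArg (fun z => C.form z (v i)) hc
    simp only [Fin.sum_univ_three, C.form_add_left, C.form_smul_left, hvv, C.form_zero_left] at h
    fin_cases i <;> simpa using h
  have hD : IsNondegenerateMDecomposition (Cfsg.hermForm 3 F 3) 1 fun i => Submodule.span F {v i} := by
    refine ⟨⟨by norm_num, one_pos, fun i => finrank_span_singleton (hv0 i), hli.iSupIndep_span_singleton, ?_⟩,
      fun i x hx hx0 => ?_, fun i j hij x hx y hy => ?_⟩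
    · rw [← Submodule.span_iUnion, Set.iUnion_singleton_eq_range]
      exact hli.span_eq_top_of_card_eq_finrank' (by simp)
    · obtain ⟨a, rfl⟩ := Submodule.mem_span_singleton.1 hx
      have ha : a ≠ 0 := fun h => hx0 (by rw [h, zero_smul])
      have hm := Submodule.mem_span_singleton_self (R := F) (v i)
      refine ⟨⟨v i, hm, ?_⟩, ⟨v i, hm, ?_⟩⟩ <;> rw [herm_form C]
      · rw [C.form_smul_right, hvv, if_pos rfl, mul_one]
        simpa using ha
      · rw [C.form_smul_left, hvv, if_pos rfl, mul_one]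
        exact ha
    · obtain ⟨a, rfl⟩ := Submodule.mem_span_singleton.1 hx
      obtain ⟨b, rfl⟩ := Submodule.mem_span_singleton.1 hy
      rw [herm_form C, C.form_smul_left, C.form_smul_right, hvv, if_neg hij, mul_zero, mul_zero]
  refine ⟨_, hD, su_eq_inf hH (fun g hg => ?_) (su_not_le_frame C hF le_rfl (Or.inl (by norm_num)) hD)⟩
  obtain ⟨c, M, hM, hMM, -, hk⟩ := hu g (hle hg) (hH.1.le hg)
  have hcol : ∀ i, ∃ j, ∀ l, l ≠ j → M l i = 0 := fun i => by
    have h := congrFun (congrFun hMM i) i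
    simp only [Matrix.mul_apply, Matrix.transpose_apply, Matrix.one_apply_eq, Fin.sum_univ_three] at h
    obtain ⟨a, ha, ha'⟩ := X.real_nat (Or.inl rfl) (hM 0 i)
    obtain ⟨b, hb, hb'⟩ := X.real_nat (Or.inl rfl) (hM 1 i)
    obtain ⟨d, hd, hd'⟩ := X.real_nat (Or.inl rfl) (hM 2 i)
    have h' := X.nat_eq (Or.inl rfl) (m := a * a + b * b + d * d) (n := 1) (by push_cast; rw [ha', hb', hd', h])
    have key : ∀ a < 3, ∀ b < 3, ∀ d < 3, (a * a + b * b + d * d) % 3 = 1 % 3 →
        (b = 0 ∧ d = 0) ∨ (a = 0 ∧ d = 0) ∨ (a = 0 ∧ b = 0) := by decide +kernel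
    rcases key a ha b hb d hd h' with ⟨rfl, rfl⟩ | ⟨rfl, rfl⟩ | ⟨rfl, rfl⟩
    · exact ⟨0, fun l hl => by fin_cases l <;> first | exact absurd rfl hl | simpa using ha'.symm | simpa using hb'.symm | simpa using hd'.symm⟩
    · exact ⟨1, fun l hl => by fin_cases l <;> first | exact absurd rfl hl | simpa using ha'.symm | simpa using hb'.symm | simpa using hd'.symm⟩
    · exact ⟨2, fun l hl => by fin_cases l <;> first | exact absurd rfl hl | simpa using ha'.symm | simpa using hb'.symm | simpa using hd'.symm⟩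
  choose j hj using hcol
  have hone : ∀ i, M (j i) i * M (j i) i = 1 := fun i => by
    have h := congrFun (congrFun hMM i) i
    rw [Matrix.mul_apply, Finset.sum_eq_single (j i) (fun l _ hl => by rw [hj i l hl, mul_zero])
      (fun h => absurd (Finset.mem_univ _) h), Matrix.one_apply_eq] at h
    exact h
  have hinj : Function.Injective j := fun a b hab => by
    by_contra hne
    have h := congrFun (congrFun hMM a) b
    rw [Matrix.mul_apply, Finset.sum_eq_single (j a) (fun l _ hl => by rw [hj b l (hab ▸ hl), mul_zero])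
      (fun h => absurd (Finset.mem_univ _) h), Matrix.one_apply_ne hne, Matrix.transpose_apply] at h
    have ha := hone a
    have hb := hone b
    rw [← hab] at hb
    rcases mul_eq_zero.1 h with h0 | h0
    · rw [h0, zero_mul] at ha; exact zero_ne_one ha
    · rw [h0, zero_mul] at hb; exact zero_ne_one hb
  let π : Equiv.Perm (Fin 3) := Equiv.ofBijective j (Finite.injective_iff_bijective.1 hinj)
  refine ⟨π, fun i => ?_⟩
  have hgv : (g : Matrix (Fin 3) (Fin 3) F) *ᵥ v i = (c * M (j i) i) • v (j i) := by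
    have e : ((u⁻¹ * g * u : GL (Fin 3) F) : Matrix (Fin 3) (Fin 3) F) *ᵥ Pi.single i 1 =
        (c * M (j i) i) • Pi.single (j i) 1 := by
      rw [hk]
      funext l
      rcases eq_or_ne l (j i) with rfl | hl
      · simp [Matrix.mulVec_single_one]
      · simp [Matrix.mulVec_single_one, hj i l hl, Pi.single_apply, hl]
    rw [hv]
    simp only
    rw [← mulVec_smul, ← e, mulVec_mulVec, mulVec_mulVec, ← Units.val_mul, ← Units.val_mul,
      mul_assoc u⁻¹, mul_inv_cancel_left]
  have hc0 : c * M (j i) i ≠ 0 := fun h => hv0 i (by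
    rw [← one_mulVec (v i), ← gl_inv_mul g, ← mulVec_mulVec, hgv, h, zero_smul, mulVec_zero])
  rw [Submodule.map_span, Set.image_singleton, Matrix.toLin'_apply, hgv]
  exact Submodule.span_singleton_smul_eq (IsUnit.mk0 _ hc0) _

/-- for five elements the orthogonal group is not maximal -/
theorem orth_five (hF : Fintype.card F = 5 ^ 2) {H : Subgroup (GL (Fin 3) F)}
    (hH : IsMaximalIn (suGL 3 F 5) H) {F₀ : Subfield F} {P : GL (Fin 3) F} (hc : Fintype.card F = Nat.card F₀ ^ 2)
    (hs : IsFormRationalStructure (Cfsg.hermForm 3 F 5) F₀ 1 P) (hle : H ≤ subfieldSubgroup F₀ P) : False := by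
  obtain ⟨σ, w, X⟩ := exists_ctx hF (Or.inr rfl)
  obtain ⟨u, huU, hu⟩ := X.exists_real (Or.inr rfl) hc hs
  have hnat : ∀ a < 5, emb 5 w a = (a : F) := fun a ha => by simp [emb, Nat.mod_eq_of_lt ha, Nat.div_eq_of_lt ha]
  have hr : (5 : ℕ) = 3 ∨ (5 : ℕ) = 5 := Or.inr rfl
  refine X.not_maximal hH huU (fun g hg => ?_) (X.rep_of_gen genA_ok torus_gen.2.2) (fun x hx hxs hmem => ?_) outA_ok
  · obtain ⟨c, M, hM, hMM, hMd, hk⟩ := hu g (hle hg) (hH.1.le hg)
    choose n hn hn' using fun i j => X.real_nat hr (hM i j)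
    have hcol := congrFun (congrFun hMM 0) 0
    simp only [Matrix.mul_apply, Matrix.transpose_apply, Matrix.one_apply_eq, Fin.sum_univ_three, ← hn'] at hcol
    obtain ⟨A, hA, a0, a1, a2⟩ := first_col _ (hn 0 0) _ (hn 1 0) _ (hn 2 0)
      ((X.nat_eq hr (m := n 0 0 * n 0 0 + n 1 0 * n 1 0 + n 2 0 * n 2 0) (n := 1) (by push_cast; exact hcol)).trans
        (by norm_num))
    obtain ⟨a, ⟨haS, haU⟩, ha⟩ := X.rep_of_gen genT_ok hA
    have har : (a : Matrix (Fin 3) (Fin 3) F).map σ = a := by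
      ext i j
      rw [Matrix.map_apply, ha, emM_apply, hnat _ (genT_real A hA i j), map_natCast]
    have haa : (a : Matrix (Fin 3) (Fin 3) F)ᵀ * a = 1 := by
      have h := X.mem_GU_iff.1 haU.1
      rwa [Matrix.transpose_map, har] at h
    have haa' := mul_eq_one_comm.1 haa
    set N := (a : Matrix (Fin 3) (Fin 3) F)ᵀ * M with hN
    have hNr : ∀ i j, σ (N i j) = N i j := fun i j => by
      simp only [hN, Matrix.mul_apply, map_sum, map_mul, Matrix.transpose_apply, hM]
      exact Finset.sum_congr rfl fun l _ => by rw [show σ ((a : Matrix (Fin 3) (Fin 3) F) l i) = _ from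
        congrFun (congrFun har l) i]
    have hNN : Nᵀ * N = 1 := by
      rw [hN, Matrix.transpose_mul, Matrix.transpose_transpose, mul_assoc, ← mul_assoc (a : Matrix (Fin 3) (Fin 3) F),
        haa', one_mul, hMM]
    have hNd : N.det = 1 := by
      rw [hN, Matrix.det_mul, Matrix.det_transpose, hMd, mul_one, ← Matrix.GeneralLinearGroup.val_det_apply,
        MonoidHom.mem_ker.1 haU.2, Units.val_one]
    have hN0 : ∀ i, N i 0 = if i = 0 then 1 else 0 := fun i => by
      have h := congrFun (congrFun haa i) 0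
      rw [Matrix.one_apply] at h
      rw [← h, hN, Matrix.mul_apply, Matrix.mul_apply]
      refine Finset.sum_congr rfl fun l _ => ?_
      congr 1
      rw [ha, emM_apply, hnat _ (genT_real A hA l 0), ← hn' l 0]
      fin_cases l <;> simp [a0, a1, a2]
    have hNr0 : N 0 1 = 0 ∧ N 0 2 = 0 := by
      constructor
      · have h := congrFun (congrFun hNN 0) 1
        simpa [Matrix.mul_apply, Fin.sum_univ_three, hN0] using h
      · have h := congrFun (congrFun hNN 0) 2
        simpa [Matrix.mul_apply, Fin.sum_univ_three, hN0] using h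
    choose m hm hm' using fun i j => X.real_nat hr (hNr i j)
    have r1 := congrFun (congrFun hNN 1) 1
    have r2 := congrFun (congrFun hNN 2) 2
    have r3 := congrFun (congrFun hNN 1) 2
    simp [Matrix.mul_apply, Fin.sum_univ_three, hNr0] at r1 r2 r3
    have r4 := hNd
    simp [Matrix.det_fin_three, hN0, hNr0] at r4
    rw [← hm' 1 1, ← hm' 2 1] at r1
    rw [← hm' 1 2, ← hm' 2 2] at r2
    rw [← hm' 1 1, ← hm' 2 1, ← hm' 1 2, ← hm' 2 2] at r3 r4
    have h5 : (5 : F) = 0 := by simpa using X.M.char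
    have hrot := rot_block (hm 1 1) (hm 1 2) (hm 2 1) (hm 2 2)
      ((X.nat_eq hr (n := 1) (by push_cast; exact r1)).trans (by norm_num))
      ((X.nat_eq hr (n := 1) (by push_cast; exact r2)).trans (by norm_num))
      ((X.nat_eq hr (n := 0) (by push_cast; exact r3)).trans (by norm_num))
      ((X.nat_eq hr (n := 1) (by push_cast; linear_combination r4 + ((m 1 2 : ℕ) : F) * (m 2 1 : ℕ) * h5)).trans
        (by norm_num))
    have hNe : N = emM 5 w ((1, 0, 0), (0, m 1 1, m 1 2), (0, m 2 1, m 2 2)) := by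
      ext i j
      rw [emM_apply]
      fin_cases i <;> fin_cases j <;>
        simp [ent, ent3, X.M.emb_zero, X.M.emb_one, hN0, hNr0, hnat _ (hm 1 1), hnat _ (hm 1 2), hnat _ (hm 2 1),
          hnat _ (hm 2 2), hm']
    refine X.mem_of_rep (X.rep_mm (X.rep_of_gen genT_ok hA) (X.rep_of_gen genRot_ok hrot)) (c := c) ?_
    rw [hk, X.M.emM_mm, ← ha, ← hNe, hN, ← mul_assoc, haa', one_mul]
  · obtain ⟨c, M, hM, -, -, hk⟩ := hu _ (hle hmem) (X.conj_mem huU hxs)
    rw [show u⁻¹ * (u * x * u⁻¹) * u = x by group, hx] at hk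
    have e0 := congrFun (congrFun hk 0) 0
    have e1 := congrFun (congrFun hk 1) 0
    simp only [emM_apply, Matrix.smul_apply, smul_eq_mul] at e0 e1
    have h : emb 5 w 5 * σ (emb 5 w 19) = σ (emb 5 w 5) * emb 5 w 19 := by
      rw [show emb 5 w 5 = c * M 0 0 from e0, show emb 5 w 19 = c * M 1 0 from e1]
      simp only [map_mul, hM]
      ring
    rw [← X.M.emb_gb, ← X.M.emb_gb, ← X.M.emb_gm, ← X.M.emb_gm] at h
    exact absurd (X.M.emb_inj (code_lt (by norm_num) _ _) (code_lt (by norm_num) _ _) h) (by decide)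

end CfsgLib.Perm.Asch.U3
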