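import Cfsg.Agent.Lib.Perm.Asch.Forms.U3.Common
import Cfsg.Agent.Lib.Perm.Elusive.ExtraspecialUnitary

/-!
# The normaliser of the group of order twenty-seven is not maximal in `SU_3(5)`
-/

set_option autoImplicit false
set_option linter.all false

namespace CfsgLib.Perm.Asch.U3

open scoped Classical Matrix
open Matrix Cfsg.Geo CfsgLib.SU

/-- `diag (1, ω, ω²)` -/
def dC : M3 := ((1, 0, 0), (0, 12, 0), (0, 0, 17))

/-- the cyclic permutation -/
def sC : M3 := ((0, 0, 1), (1, 0, 0), (0, 1, 0))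

/-- the element moving the group -/
def gC : M3 := ((19, 15, 12), (15, 19, 12), (17, 17, 6))

/-- the element `ω ^ c D ^ a S ^ b` -/
def elt (n : ℕ) : M3 :=
  mm 5 2 (pw3 5 ((12, 0, 0), (0, 12, 0), (0, 0, 12)) (n / 9)) (mm 5 2 (pw3 5 dC (n / 3 % 3)) (pw3 5 sC (n % 3)))

/-- the chosen matrix with the given action -/
def uOf (n m : ℕ) : M3 :=
  genU.getD (uIdx.findIdx fun x => Nat.beq x.1 (n / 3 % 3) && Nat.beq x.2.1 (n % 3) && Nat.beq x.2.2.1 (m / 3 % 3) &&
    Nat.beq x.2.2.2.1 (m % 3)) one3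

/-- an element with the action given by `n` and `m` is a scalar multiple of one preserving the points -/
def stepOk (n m : ℕ) : Bool :=
  mm 5 2 (elt n) (elt m) != mm 5 2 ((12, 0, 0), (0, 12, 0), (0, 0, 12)) (mm 5 2 (elt m) (elt n)) ||
    (List.range 9).any fun t =>
      let V := mm 5 2 (uOf n m) (elt t)
      mm 5 2 V dC == mm 5 2 (elt n) V && mm 5 2 V sC == mm 5 2 (elt m) V && mm 5 2 (star3 5 V) V == one3 &&
        (genB.contains (uOf n m) || (List.range 25).all fun c => !Nat.beq (gm 5 2 (gm 5 2 c (gm 5 2 c c)) (det3 5 2 V)) 1)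

theorem step_ok : ∀ n < 27, ∀ m < 27, stepOk n m = true := by decide +kernel

set_option synthInstance.maxSize 4000 in
theorem elt_closed : ∀ n < 27, ∀ m < 27, ∃ k < 27, mm 5 2 (elt n) (elt m) = elt k := by decide +kernel

set_option synthInstance.maxSize 4000 in
theorem elt_star : ∀ n < 27, ∃ k < 27, star3 5 (elt n) = elt k := by decide +kernel

set_option synthInstance.maxSize 4000 in
theorem elt_facts : elt 0 = one3 ∧ elt 3 = dC ∧ elt 1 = sC ∧ (∀ n < 27, mm 5 2 gC dC ≠ mm 5 2 (elt n) gC) ∧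
    mm 5 2 (mm 5 2 dC dC) (mm 5 2 dC dC) = dC ∧ mm 5 2 dC sC = mm 5 2 ((12, 0, 0), (0, 12, 0), (0, 0, 12)) (mm 5 2 sC dC) ∧
    ga 5 (ga 5 (gm 5 2 12 12) 12) 1 = 0 ∧ gm 5 2 12 12 = 17 ∧ gm 5 2 17 17 = 12 := by decide +kernel

theorem gens_mem : ((12, 0, 0), (0, 12, 0), (0, 0, 12)) ∈ genB ∧ dC ∈ genB ∧ sC ∈ genB ∧ gC ∈ genB := by
  simp [genB, dC, sC, gC]

variable {F : Type*} [Field F] [Fintype F] {σ : F →+* F} {w : F}

theorem Ctx.emM_mm_inj (X : Ctx σ 5 w) {A B A' B' : M3}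
    (h : emM 5 w (mm 5 2 A B) = emM 5 w (mm 5 2 A' B')) : mm 5 2 A B = mm 5 2 A' B' := by
  have e : ∀ i j, ent (mm 5 2 A B) i j = ent (mm 5 2 A' B') i j := fun i j => by
    refine X.M.emb_inj ?_ ?_ (by rw [← emM_apply, ← emM_apply, h]) <;>
      fin_cases i <;> fin_cases j <;> exact code_lt (by norm_num) _ _
  exact Prod.ext (Prod.ext (e 0 0) (Prod.ext (e 0 1) (e 0 2))) (Prod.ext (Prod.ext (e 1 0) (Prod.ext (e 1 1) (e 1 2)))
    (Prod.ext (e 2 0) (Prod.ext (e 2 1) (e 2 2))))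

theorem Ctx.rep_elt (X : Ctx σ 5 w) (n : ℕ) : Rep 5 w ptsB (elt n) :=
  X.rep_mm (X.rep_pw (X.rep_of_gen genB_ok gens_mem.1) _) (X.rep_mm (X.rep_pw (X.rep_of_gen genB_ok gens_mem.2.1) _)
    (X.rep_pw (X.rep_of_gen genB_ok gens_mem.2.2.1) _))

/-- what commutes with `D` and `S` is scalar -/
theorem Ctx.commutant (X : Ctx σ 5 w) {h : Matrix (Fin 3) (Fin 3) F} (hD : h * emM 5 w dC = emM 5 w dC * h)
    (hS : h * emM 5 w sC = emM 5 w sC * h) : ∃ c : F, h = c • (1 : Matrix (Fin 3) (Fin 3) F) := by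
  have hne : ∀ a < 25, ∀ b < 25, a ≠ b → emb 5 w a - emb 5 w b ≠ (0 : F) := fun a ha b hb hab h0 =>
    hab (X.M.emb_inj ha hb (sub_eq_zero.1 h0))
  have d : ∀ i j, h i j * emb 5 w (ent dC j j) = emb 5 w (ent dC i i) * h i j := fun i j => by
    have h1 := congrFun (congrFun hD i) j
    fin_cases i <;> fin_cases j <;>
      simp [Matrix.mul_apply, Fin.sum_univ_three, emM_apply, dC, ent, ent3, X.M.emb_zero] at h1 ⊢ <;> exact h1
  have off : ∀ i j, i ≠ j → h i j = 0 := fun i j hij => by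
    have h1 : (emb 5 w (ent dC j j) - emb 5 w (ent dC i i)) * h i j = 0 := by linear_combination d i j
    refine (mul_eq_zero.1 h1).resolve_left ?_
    fin_cases i <;> fin_cases j <;> first | exact absurd rfl hij |
      exact hne _ (by decide) _ (by decide) (by decide)
  have s1 := congrFun (congrFun hS 1) 0
  have s2 := congrFun (congrFun hS 2) 1
  simp [Matrix.mul_apply, Fin.sum_univ_three, emM_apply, sC, ent, ent3, X.M.emb_zero, X.M.emb_one] at s1 s2
  refine ⟨h 0 0, ?_⟩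
  ext i j
  rcases eq_or_ne i j with rfl | hij
  · fin_cases i <;> simp [s1, s2]
  · rw [off i j hij, Matrix.smul_apply, Matrix.one_apply_ne hij, smul_zero]

/-- the normaliser of the group lies in the stabiliser -/
theorem Ctx.step (X : Ctx σ 5 w) {g : GL (Fin 3) F} (hg : g ∈ suGL 3 F 5) {n m : ℕ} (hn : n < 27) (hm : m < 27)
    (hnD : (g : Matrix (Fin 3) (Fin 3) F) * emM 5 w dC = emM 5 w (elt n) * g)
    (hmS : (g : Matrix (Fin 3) (Fin 3) F) * emM 5 w sC = emM 5 w (elt m) * g) : g ∈ stabS 5 w ptsB := by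
  have h := step_ok n hn m hm
  simp only [stepOk, Bool.or_eq_true, bne_iff_ne, ne_eq, List.any_eq_true, Bool.and_eq_true, beq_iff_eq,
    List.all_eq_true, List.mem_range, Bool.not_eq_true'] at h
  rcases h with h | ⟨t, -, ⟨⟨hVD, hVS⟩, hV⟩, hU⟩
  · refine absurd (X.emM_mm_inj ?_) h
    have e := congrArg (emM 5 w) elt_facts.2.2.2.2.2.1
    simp only [X.M.emM_mm] at e ⊢
    have hc : emM 5 w (elt n) * emM 5 w (elt m) * (g : Matrix (Fin 3) (Fin 3) F) =
        emM 5 w ((12, 0, 0), (0, 12, 0), (0, 0, 12)) * (emM 5 w (elt m) * emM 5 w (elt n)) * g := by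
      rw [mul_assoc, ← hmS, ← mul_assoc, ← hnD, mul_assoc, e]
      rw [mul_assoc _ (emM 5 w (elt m) * emM 5 w (elt n)), mul_assoc (emM 5 w (elt m)), ← hnD,
        ← mul_assoc (emM 5 w (elt m)), ← hmS]
      have hsc : ∀ A : Matrix (Fin 3) (Fin 3) F,
          A * emM 5 w ((12, 0, 0), (0, 12, 0), (0, 0, 12)) = emM 5 w ((12, 0, 0), (0, 12, 0), (0, 0, 12)) * A := by
        intro A
        ext i j
        fin_cases i <;> fin_cases j <;>
          simp [Matrix.mul_apply, Fin.sum_univ_three, emM_apply, ent, ent3, X.M.emb_zero, mul_comm]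
      rw [← mul_assoc (g : Matrix (Fin 3) (Fin 3) F), hsc]
      simp only [mul_assoc]
    have := congrArg (fun A => A * ((g⁻¹ : GL (Fin 3) F) : Matrix (Fin 3) (Fin 3) F)) hc
    simpa only [mul_assoc, gl_mul_inv, mul_one] using this
  · set V := mm 5 2 (uOf n m) (elt t)
    have e1 : (emM 5 w V)ᵀ.map σ * emM 5 w V = 1 := by rw [← X.M.emM_star, ← X.M.emM_mm, hV, X.M.emM_one]
    have e2 : emM 5 w V * (emM 5 w V)ᵀ.map σ = 1 := mul_eq_one_comm.1 e1
    have mv' : ∀ A B, mm 5 2 V A = mm 5 2 B V →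
        (emM 5 w V)ᵀ.map σ * emM 5 w B = emM 5 w A * (emM 5 w V)ᵀ.map σ := fun A B h => by
      have h' := congrArg (emM 5 w) h
      simp only [X.M.emM_mm] at h'
      calc (emM 5 w V)ᵀ.map σ * emM 5 w B
          = (emM 5 w V)ᵀ.map σ * (emM 5 w B * emM 5 w V) * (emM 5 w V)ᵀ.map σ := by
            rw [mul_assoc, mul_assoc, e2, mul_one]
        _ = _ := by rw [← h', ← mul_assoc, e1, one_mul]
    obtain ⟨c, hc⟩ := X.commutant (h := (emM 5 w V)ᵀ.map σ * g)
      (by rw [mul_assoc, hnD, ← mul_assoc, mv' _ _ hVD, mul_assoc])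
      (by rw [mul_assoc, hmS, ← mul_assoc, mv' _ _ hVS, mul_assoc])
    have hgV : (g : Matrix (Fin 3) (Fin 3) F) = c • emM 5 w V := by
      rw [← one_mul (g : Matrix (Fin 3) (Fin 3) F), ← e2, mul_assoc, hc, mul_smul_comm, mul_one]
    rcases hU with hU | hU
    · exact X.mem_of_rep (X.rep_mm (X.rep_of_gen genB_ok (List.contains_iff_mem.1 hU)) (X.rep_elt t)) hgV
    · exfalso
      obtain ⟨k, hk, rfl⟩ := X.M.emb_surj c
      have hd := congrArg Units.val (MonoidHom.mem_ker.1 hg.2)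
      rw [Matrix.GeneralLinearGroup.val_det_apply, Units.val_one, hgV, Matrix.det_smul, Fintype.card_fin,
        X.M.emM_det] at hd
      have hne : gm 5 2 (gm 5 2 k (gm 5 2 k k)) (det3 5 2 V) ≠ 1 := fun e => by
        have h1 := hU k hk
        rw [e] at h1
        exact absurd h1 (by decide)
      refine hne (X.M.emb_inj (b := 1) (code_lt (by norm_num) _ _) (by norm_num) ?_)
      rw [X.M.emb_gm, X.M.emb_gm, X.M.emb_gm, X.M.emb_one, ← hd]
      ring

/-- the normaliser of the group is not maximal -/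
theorem sym_not_maximal (hF : Fintype.card F = 5 ^ 2) {H R : Subgroup (GL (Fin 3) F)}
    (hH : IsMaximalIn (suGL 3 F 5) H) (hR : IsSymplecticTypeGroup 3 R)
    (hI : R ≤ Cfsg.GU 3 F 5) (hc : Nat.card R = 27) (hz : Nat.card (Subgroup.center R) = 3)
    (hHR : H = subgroupNormalizer R ⊓ suGL 3 F 5) : False := by
  obtain ⟨σ, w, X⟩ := exists_ctx hF (Or.inr rfl)
  haveI : Fact (Nat.Prime 5) := ⟨by norm_num⟩
  obtain ⟨q, e, hq, hcq, hqe, he, -⟩ := X.hu.exists_prime_pow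
  obtain rfl : q = 5 := (Nat.prime_dvd_prime_iff_eq hq (by norm_num)).1 (hqe ▸ dvd_pow_self q he.ne')
  haveI := hcq
  have h3 : (3 : F) ≠ 0 := fun h => absurd ((CharP.cast_eq_zero_iff F 5 3).1 (by exact_mod_cast h)) (by norm_num)
  have hna : ¬ IsMulCommutative R := fun h => by
    have htop : Subgroup.center R = ⊤ := eq_top_iff.2 fun a _ => Subgroup.mem_center_iff.2 fun b => h.is_comm.comm b a
    rw [htop, Nat.card_congr Subgroup.topEquiv.toEquiv, hc] at hz
    norm_num at hz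
  set ω : F := emb 5 w 12 with hω
  obtain ⟨e0, e3, e1', hgC, hD4, -, hω0, h17, h12⟩ := elt_facts
  have hω2 : ω * ω + ω + 1 = 0 := by
    rw [hω, ← X.M.emb_gm, ← X.M.emb_one, ← X.M.emb_ga, ← X.M.emb_ga, hω0, X.M.emb_zero]
  obtain ⟨μ, hμ, P, Dμ, S, hDμ, hS, hPD, hPS, hgen, -⟩ := CfsgLib.Perm.Elusive.exists_frame R hc
    (by rw [hR.exponent_eq]; rfl) hna h3 hω2
  have hμ3 : μ * μ * μ = 1 := by linear_combination (μ - 1) * hμ
  have hμ1 : μ ≠ 1 := fun h => h3 (by rw [h] at hμ; linear_combination hμ)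
  have hμp : μ * μ ^ 5 = 1 := by linear_combination (μ * μ * μ + 1) * hμ3
  obtain ⟨u, huU, huD, huS⟩ := CfsgLib.Perm.Elusive.exists_gu_frame hF R hI hμ3 hμ1 hμp hDμ hS hPD hPS
  obtain ⟨gD, ⟨hDS, hDU⟩, hgD⟩ := X.rep_of_gen genB_ok gens_mem.2.1
  obtain ⟨gS, ⟨hSS, hSU⟩, hgS⟩ := X.rep_of_gen genB_ok gens_mem.2.2.1
  have hSeq : S = gS := Units.ext (by
    rw [hS, hgS]; ext i j
    fin_cases i <;> fin_cases j <;> simp [emM_apply, sC, ent, ent3, X.M.emb_zero, X.M.emb_one])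
  have hdiag : ∀ a : ℕ, ∀ b : ℕ, emM 5 w ((1, 0, 0), (0, a, 0), (0, 0, b)) = Matrix.diagonal ![1, emb 5 w a, emb 5 w b] := by
    intro a b
    ext i j
    fin_cases i <;> fin_cases j <;> simp [emM_apply, ent, ent3, X.M.emb_zero, X.M.emb_one]
  have h4 : gD * gD * (gD * gD) = gD := Units.ext (by
    simp only [Units.val_mul, hgD, ← X.M.emM_mm, hD4])
  have hμD : Dμ = gD ∨ Dμ = gD * gD := by
    have h2 : (μ - emb 5 w 12) * (μ - emb 5 w 17) = 0 := by
      rw [← h17, X.M.emb_gm, ← hω]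
      linear_combination hμ + (ω - 1 - μ) * hω2
    rcases mul_eq_zero.1 h2 with h | h <;> rw [sub_eq_zero] at h
    · left
      refine Units.ext ?_
      rw [hDμ, hgD, dC, hdiag, h, ← X.M.emb_gm, h17]
    · right
      refine Units.ext ?_
      rw [hDμ, Units.val_mul, hgD, dC, hdiag, h, Matrix.diagonal_mul_diagonal, ← X.M.emb_gm, h12]
      congr 1
      funext i
      fin_cases i <;> simp [← X.M.emb_gm, h12, show gm 5 2 12 12 = 17 from h17]
  set L : Subgroup (GL (Fin 3) F) := Subgroup.closure {gD, gS} with hL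
  have hRL : R = L.map (MulAut.conj u).toMonoidHom := by
    rw [hgen, ← huD, ← huS, hSeq, hL, MonoidHom.map_closure, Set.image_pair]
    rcases hμD with h | h <;> rw [h]
    · rfl
    · show Subgroup.closure {u * (gD * gD) * u⁻¹, u * gS * u⁻¹} = Subgroup.closure {u * gD * u⁻¹, u * gS * u⁻¹}
      refine le_antisymm ((Subgroup.closure_le _).2 ?_) ((Subgroup.closure_le _).2 ?_) <;>
        rintro _ (rfl | rfl)
      · rw [show u * (gD * gD) * u⁻¹ = (u * gD * u⁻¹) * (u * gD * u⁻¹) by group]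
        exact mul_mem (Subgroup.subset_closure (Set.mem_insert _ _)) (Subgroup.subset_closure (Set.mem_insert _ _))
      · exact Subgroup.subset_closure (Set.mem_insert_of_mem _ rfl)
      · rw [show u * gD * u⁻¹ = (u * (gD * gD) * u⁻¹) * (u * (gD * gD) * u⁻¹) by
          conv_lhs => rw [← h4]
          group]
        exact mul_mem (Subgroup.subset_closure (Set.mem_insert _ _)) (Subgroup.subset_closure (Set.mem_insert _ _))
      · exact Subgroup.subset_closure (Set.mem_insert_of_mem _ rfl)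
  have hlist : ∀ y ∈ L, ∃ n < 27, (y : Matrix (Fin 3) (Fin 3) F) = emM 5 w (elt n) ∧ y ∈ Cfsg.GU 3 F 5 := by
    intro y hy
    induction hy using Subgroup.closure_induction with
    | mem y hy =>
      rcases hy with rfl | rfl
      · exact ⟨3, by norm_num, by rw [e3, hgD], hDU.1⟩
      · exact ⟨1, by norm_num, by rw [e1', hgS], hSU.1⟩
    | one => exact ⟨0, by norm_num, by rw [e0, Units.val_one, X.M.emM_one], one_mem _⟩
    | mul a b _ _ ha hb =>
      obtain ⟨n, hn, ha', haU⟩ := ha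
      obtain ⟨m, hm, hb', hbU⟩ := hb
      obtain ⟨k, hk, hk'⟩ := elt_closed n hn m hm
      exact ⟨k, hk, by rw [Units.val_mul, ha', hb', ← X.M.emM_mm, hk'], (Cfsg.GU 3 F 5).mul_mem haU hbU⟩
    | inv a _ ha =>
      obtain ⟨n, hn, ha', haU⟩ := ha
      obtain ⟨k, hk, hk'⟩ := elt_star n hn
      refine ⟨k, hk, ?_, (Cfsg.GU 3 F 5).inv_mem haU⟩
      have h := X.mem_GU_iff.1 haU
      rw [← hk', X.M.emM_star, ← ha']
      calc ((a⁻¹ : GL (Fin 3) F) : Matrix (Fin 3) (Fin 3) F)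
          = (a : Matrix (Fin 3) (Fin 3) F)ᵀ.map σ * (a : Matrix (Fin 3) (Fin 3) F) *
              ((a⁻¹ : GL (Fin 3) F) : Matrix (Fin 3) (Fin 3) F) := by rw [h, one_mul]
        _ = _ := by rw [mul_assoc, gl_mul_inv, mul_one]
  have hconj : ∀ g ∈ H, ∀ y ∈ L, u⁻¹ * g * u * y * (u⁻¹ * g * u)⁻¹ ∈ L := fun g hg y hy => by
    rw [hHR, Subgroup.mem_inf] at hg
    have h1 : g * (u * y * u⁻¹) * g⁻¹ ∈ R := (Subgroup.mem_normalizer_iff.1 hg.1 _).1 (hRL ▸ ⟨y, hy, rfl⟩)
    rw [hRL] at h1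
    obtain ⟨z, hz, hz'⟩ := h1
    have e5 : u⁻¹ * g * u * y * (u⁻¹ * g * u)⁻¹ = z := by
      calc u⁻¹ * g * u * y * (u⁻¹ * g * u)⁻¹ = u⁻¹ * (g * (u * y * u⁻¹) * g⁻¹) * u := by group
        _ = u⁻¹ * (MulAut.conj u z) * u := by rw [← hz']; rfl
        _ = z := by simp [mul_assoc]
    rw [e5]
    exact hz
  have hmov : ∀ (g : GL (Fin 3) F) (y : GL (Fin 3) F) (A : M3), (y : Matrix (Fin 3) (Fin 3) F) = emM 5 w A →
      g * y * g⁻¹ ∈ L → ∃ n < 27, (g : Matrix (Fin 3) (Fin 3) F) * emM 5 w A = emM 5 w (elt n) * g :=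
    fun g y A hy h => by
      obtain ⟨n, hn, hn', -⟩ := hlist _ h
      refine ⟨n, hn, ?_⟩
      rw [← hn', ← hy, ← Units.val_mul, ← Units.val_mul, inv_mul_cancel_right]
  refine X.not_maximal hH huU (fun g hg => ?_) (X.rep_of_gen genB_ok gens_mem.2.2.2) (fun x hx hxs hmem => ?_) outB_ok
  · obtain ⟨n, hn, hn'⟩ := hmov _ gD dC hgD (hconj g hg gD (Subgroup.subset_closure (Set.mem_insert _ _)))
    obtain ⟨m, hm, hm'⟩ := hmov _ gS sC hgS (hconj g hg gS (Subgroup.subset_closure (Set.mem_insert_of_mem _ rfl)))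
    refine X.step ?_ hn hm hn' hm'
    simpa using X.conj_mem ((Cfsg.GU 3 F 5).inv_mem huU) (hH.1.le hg)
  · have h := hconj _ hmem gD (Subgroup.subset_closure (Set.mem_insert _ _))
    rw [show u⁻¹ * (u * x * u⁻¹) * u = x by group] at h
    obtain ⟨n, hn, hn'⟩ := hmov x gD dC hgD h
    rw [hx, ← X.M.emM_mm, ← X.M.emM_mm] at hn'
    exact hgC n hn (X.emM_mm_inj hn')

end CfsgLib.Perm.Asch.U3
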